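import Mathlib.LinearAlgebra.Matrix.NonsingularInverse
import Mathlib.RingTheory.Ideal.Operations

/-!
# Right invertible matrices and maximal minors (helper819)

`exists_rightInv_iff` : `M` (`r x ι`) has a right inverse iff the minors `det (M_I)`, `I : Fin r → ι`, generate the
unit ideal; `exists_rightInv_iff₂` : two matrices, products of minors.
-/

set_option autoImplicit false

namespace Groth.Agent.ResProp.EF.K819

open Matrix

section
variable {K : Type*} [CommRing K] {r : ℕ} {ι : Type*} [Fintype ι] [DecidableEq ι]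

/-- maximal minor of the columns `I` -/
def minor (M : Matrix (Fin r) ι K) (I : Fin r → ι) : K := (M.submatrix id I).det

omit [Fintype ι] [DecidableEq ι] in
lemma minor_map {K' : Type*} [CommRing K'] (f : K →+* K') (M : Matrix (Fin r) ι K) (I : Fin r → ι) :
    minor (M.map f) I = f (minor M I) := by
  rw [minor, minor, RingHom.map_det]
  rfl

/-- the matrix of the columns `I` -/
def colMat (K : Type*) [CommRing K] {r : ℕ} {ι : Type*} [DecidableEq ι] (I : Fin r → ι) :
    Matrix ι (Fin r) K := fun i b => if I b = i then 1 else 0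

lemma mul_colMat (M : Matrix (Fin r) ι K) (I : Fin r → ι) : M * colMat K I = M.submatrix id I := by
  ext b b'
  simp [Matrix.mul_apply, colMat]

lemma exists_rightInv_of_span {M : Matrix (Fin r) ι K}
    (h : Ideal.span (Set.range (minor M)) = ⊤) : ∃ S : Matrix ι (Fin r) K, M * S = 1 := by
  have key : ∀ a ∈ Ideal.span (Set.range (minor M)), ∃ S : Matrix ι (Fin r) K, M * S = a • 1 := by
    intro a ha
    induction ha using Submodule.span_induction with
    | mem a ha =>
      obtain ⟨I, rfl⟩ := ha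
      refine ⟨colMat K I * (M.submatrix id I).adjugate, ?_⟩
      rw [← Matrix.mul_assoc, mul_colMat, Matrix.mul_adjugate]
      rfl
    | zero => exact ⟨0, by simp⟩
    | add a b _ _ ha hb =>
      obtain ⟨S, hS⟩ := ha
      obtain ⟨S', hS'⟩ := hb
      exact ⟨S + S', by rw [Matrix.mul_add, hS, hS', add_smul]⟩
    | smul a b _ hb =>
      obtain ⟨S, hS⟩ := hb
      exact ⟨a • S, by rw [Matrix.mul_smul, hS, smul_eq_mul, mul_smul]⟩
  obtain ⟨S, hS⟩ := key 1 (by rw [h]; trivial)
  exact ⟨S, by rw [hS, one_smul]⟩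

omit [DecidableEq ι] in
lemma det_mul_eq_sum (M : Matrix (Fin r) ι K) (S : Matrix ι (Fin r) K) :
    (M * S).det = ∑ I : Fin r → ι, (∏ b, S (I b) b) * minor M I := by
  classical
  have h1 : (M * S)ᵀ = fun b => ∑ i, S i b • Mᵀ i := by
    ext b b'
    simp [Matrix.transpose_apply, Matrix.mul_apply, Finset.sum_apply, mul_comm]
  rw [← Matrix.det_transpose, h1]
  change Matrix.detRowAlternating.toMultilinearMap _ = _
  rw [MultilinearMap.map_sum]
  refine Finset.sum_congr rfl fun I _ => ?_
  rw [MultilinearMap.map_smul_univ, smul_eq_mul]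
  congr 1
  rw [minor, ← Matrix.det_transpose]
  rfl

lemma span_of_exists_rightInv {M : Matrix (Fin r) ι K} (h : ∃ S : Matrix ι (Fin r) K, M * S = 1) :
    Ideal.span (Set.range (minor M)) = ⊤ := by
  obtain ⟨S, hS⟩ := h
  rw [Ideal.eq_top_iff_one]
  have h1 : (M * S).det = 1 := by rw [hS, Matrix.det_one]
  rw [← h1, det_mul_eq_sum]
  exact sum_mem fun I _ => Ideal.mul_mem_left _ _ (Ideal.subset_span ⟨I, rfl⟩)

/-- **`M` has a right inverse iff its maximal minors generate the unit ideal.** -/
theorem exists_rightInv_iff {M : Matrix (Fin r) ι K} :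
    (∃ S : Matrix ι (Fin r) K, M * S = 1) ↔ Ideal.span (Set.range (minor M)) = ⊤ :=
  ⟨span_of_exists_rightInv, exists_rightInv_of_span⟩

end

section
variable {K : Type*} [CommRing K] {r r' : ℕ} {ι ι' : Type*} [Fintype ι] [DecidableEq ι] [Fintype ι'] [DecidableEq ι']

/-- product of two maximal minors -/
def minor₂ (M : Matrix (Fin r) ι K) (M' : Matrix (Fin r') ι' K) (z : (Fin r → ι) × (Fin r' → ι')) : K :=
  minor M z.1 * minor M' z.2

omit [Fintype ι] [DecidableEq ι] [Fintype ι'] [DecidableEq ι'] in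
lemma minor₂_map {K' : Type*} [CommRing K'] (f : K →+* K') (M : Matrix (Fin r) ι K) (M' : Matrix (Fin r') ι' K)
    (z : (Fin r → ι) × (Fin r' → ι')) : minor₂ (M.map f) (M'.map f) z = f (minor₂ M M' z) := by
  rw [minor₂, minor₂, minor_map, minor_map, map_mul]

omit [Fintype ι] [DecidableEq ι] [Fintype ι'] [DecidableEq ι'] in
lemma span_minor₂ (M : Matrix (Fin r) ι K) (M' : Matrix (Fin r') ι' K) :
    Ideal.span (Set.range (minor₂ M M')) = Ideal.span (Set.range (minor M)) * Ideal.span (Set.range (minor M')) := by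
  rw [Ideal.span_mul_span']
  congr 1
  ext a
  constructor
  · rintro ⟨z, rfl⟩
    exact Set.mul_mem_mul ⟨z.1, rfl⟩ ⟨z.2, rfl⟩
  · rintro ⟨_, ⟨I, rfl⟩, _, ⟨J, rfl⟩, rfl⟩
    exact ⟨(I, J), rfl⟩

/-- both matrices have a right inverse iff the products of maximal minors generate the unit ideal -/
theorem exists_rightInv_iff₂ {M : Matrix (Fin r) ι K} {M' : Matrix (Fin r') ι' K} :
    ((∃ S : Matrix ι (Fin r) K, M * S = 1) ∧ (∃ S : Matrix ι' (Fin r') K, M' * S = 1)) ↔
      Ideal.span (Set.range (minor₂ M M')) = ⊤ := by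
  rw [exists_rightInv_iff, exists_rightInv_iff, span_minor₂]
  constructor
  · rintro ⟨h, h'⟩
    rw [h, h', Ideal.top_mul]
  · intro h
    constructor
    · exact top_le_iff.mp (h ▸ Ideal.mul_le_left)
    · exact top_le_iff.mp (h ▸ Ideal.mul_le_right)

end

end Groth.Agent.ResProp.EF.K819
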