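import Groth.Agent.ResProp.EF.K412.Defs
import Groth.Agent.ResProp.EF.K819.Minors
import Mathlib.Algebra.MvPolynomial.Eval
import Mathlib.Algebra.Category.Ring.Constructions
import Mathlib.Algebra.Category.Ring.Colimits
import Mathlib.RingTheory.RingHom.Flat
import Mathlib.RingTheory.RingHom.FiniteType

/-!
# G1 team A, node N4s = P2: the kernel pair of theta, ring half (helper819)

`theta P : Lb[Z] → K` for a framed point `P`; `thetaEq_iff`.  For `F : FrRing D x`: `Arr F R1` = the ring
`R1 = F.R ⊗_(A,s) B` of arrows with `s, t : F.R → R1`; `exists_arr`, `Arr.flat`, `Arr.theta_eq`, `Arr.inv` (INV),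
`Arr.pts` (PTS), for the finite family `sIJ F` (products of maximal minors).
-/

set_option autoImplicit false
universe u

open Groth.Agent.Grpsch.AffGrpd CategoryTheory CategoryTheory.Limits

namespace Groth.Agent.ResProp.EF.K819

open Groth.Agent.ResProp.EF.K412

variable {A B : Type u} [CommRing A] [CommRing B] {Lb : Type u} [CommRing Lb] [Algebra Lb A] {G : RGrpd A B}
  {D : Gen Lb G} {r1 rm : ℕ}

section pts

variable {K K' : Type u} [CommRing K] [CommRing K']

lemma FrPt_ext {P P' : FrPt D r1 rm K} (ha : P.a = P'.a) (hM : P.M = P'.M) (hMm : P.Mm = P'.Mm)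
    (hmu : P.mu = P'.mu) : P = P' := by
  cases P; cases P'
  simp only at ha hM hMm hmu
  subst ha hM hMm hmu
  rfl

lemma map_map {K'' : Type u} [CommRing K''] (f : K →+* K') (g : K' →+* K'') (P : FrPt D r1 rm K) :
    (P.map f).map g = P.map (g.comp f) := rfl

/-- the target of an arrow is determined -/
lemma IsTrans_unique {γ : B →+* K} {P P' P'' : FrPt D r1 rm K} (h : IsTrans γ P P') (h' : IsTrans γ P P'') :
    P' = P'' := by
  refine FrPt_ext (h.tgt.symm.trans h'.tgt) ?_ ?_ (h.hmu.trans h'.hmu.symm)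
  · ext b j
    rw [h.hM, h'.hM]
  · ext b J
    rw [h.hMm, h'.hMm]

lemma IsTrans_map {γ : B →+* K} {P P' : FrPt D r1 rm K} (h : IsTrans γ P P') (f : K →+* K') :
    IsTrans (f.comp γ) (P.map f) (P'.map f) where
  src := by rw [RingHom.comp_assoc, h.src]; rfl
  tgt := by rw [RingHom.comp_assoc, h.tgt]; rfl
  hM b j := by
    have := congrArg f (h.hM b j)
    rw [map_sum] at this
    refine this.trans (Finset.sum_congr rfl fun i _ => ?_)
    rw [map_mul]
    rfl
  hMm b J := by
    have := congrArg f (h.hMm b J)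
    rw [map_sum] at this
    refine this.trans (Finset.sum_congr rfl fun I _ => ?_)
    rw [map_mul, map_prod]
    rfl
  hmu := by
    ext b Q
    exact congrArg f (congrFun (congrFun h.hmu b) Q)

/-- index set of the coordinates of theta -/
abbrev ThIdx (D : Gen Lb G) (r1 rm : ℕ) : Type :=
  Fin r1 ⊕ (Fin rm × (Fin D.m → Fin r1)) ⊕ (Fin D.q × Fin rm) ⊕ (Fin D.n × Fin r1 × Fin rm)

/-- the coordinates of theta -/
def thVal (P : FrPt D r1 rm K) : ThIdx D r1 rm → K
  | .inl b => P.M b D.i0
  | .inr (.inl z) => P.mu z.1 z.2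
  | .inr (.inr (.inl z)) => ∑ J, P.Mm z.2 J * P.a (D.tx z.1 J)
  | .inr (.inr (.inr z)) => ∑ i, P.M z.2.1 i * ∑ J, P.Mm z.2.2 J * P.a (D.ig i z.1 J)

lemma thVal_map (f : K →+* K') (P : FrPt D r1 rm K) (z : ThIdx D r1 rm) : thVal (P.map f) z = f (thVal P z) := by
  rcases z with b | z | z | z
  · rfl
  · rfl
  · change _ = f (∑ J, P.Mm z.2 J * P.a (D.tx z.1 J))
    rw [map_sum]
    refine Finset.sum_congr rfl fun J _ => ?_
    rw [map_mul]
    rfl
  · change _ = f (∑ i, P.M z.2.1 i * ∑ J, P.Mm z.2.2 J * P.a (D.ig i z.1 J))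
    rw [map_sum]
    refine Finset.sum_congr rfl fun i _ => ?_
    rw [map_mul, map_sum]
    congr 1
    refine Finset.sum_congr rfl fun J _ => ?_
    rw [map_mul]
    rfl

/-- **theta** as a ring map -/
noncomputable def theta (P : FrPt D r1 rm K) : MvPolynomial (ThIdx D r1 rm) Lb →+* K :=
  MvPolynomial.eval₂Hom (P.a.comp (algebraMap Lb A)) (thVal P)

lemma theta_map (f : K →+* K') (P : FrPt D r1 rm K) : theta (P.map f) = f.comp (theta P) := by
  apply MvPolynomial.ringHom_ext
  · intro l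
    simp only [theta, MvPolynomial.coe_eval₂Hom, MvPolynomial.eval₂_C, RingHom.comp_apply]
    rfl
  · intro z
    simp only [theta, MvPolynomial.coe_eval₂Hom, MvPolynomial.eval₂_X, RingHom.comp_apply]
    exact thVal_map f P z

lemma thVal_eq_iff {P P' : FrPt D r1 rm K} :
    ThetaEq P P' ↔ (∀ z, thVal P z = thVal P' z) ∧ P.a.comp (algebraMap Lb A) = P'.a.comp (algebraMap Lb A) := by
  constructor
  · intro h
    refine ⟨?_, RingHom.ext h.thL⟩
    rintro (b | z | z | z)
    · exact h.th0 b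
    · exact congrFun (congrFun h.th1 z.1) z.2
    · exact h.th2 z.1 z.2
    · exact h.th3 z.1 z.2.1 z.2.2
  · rintro ⟨h, hL⟩
    exact
    { th0 := fun b => h (.inl b)
      th1 := by
        ext b Q
        exact h (.inr (.inl (b, Q)))
      th2 := fun l b => h (.inr (.inr (.inl (l, b))))
      th3 := fun k b b' => h (.inr (.inr (.inr (k, b, b'))))
      thL := fun l => RingHom.congr_fun hL l }

/-- **theta of two framed points agree iff the ring maps `theta` agree.** -/
theorem thetaEq_iff {P P' : FrPt D r1 rm K} : ThetaEq P P' ↔ theta P = theta P' := by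
  rw [thVal_eq_iff]
  constructor
  · rintro ⟨h, hL⟩
    rw [theta, theta, hL, funext h]
  · intro h
    constructor
    · intro z
      have := RingHom.congr_fun h (MvPolynomial.X z)
      simpa only [theta, MvPolynomial.coe_eval₂Hom, MvPolynomial.eval₂_X] using this
    · ext l
      have := RingHom.congr_fun h (MvPolynomial.C l)
      simpa only [theta, MvPolynomial.coe_eval₂Hom, MvPolynomial.eval₂_C] using this

end pts

section ring

variable {k : Type u} [Field k] {x : A →+* k} (F : FrRing D x)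

/-- the products of maximal minors -/
def sIJ (z : (Fin F.r1 → Fin D.n) × (Fin F.rm → (Fin D.m → Fin D.n))) : F.R := minor₂ F.P.M F.P.Mm z

lemma sIJ_map {T : Type u} [CommRing T] (ψ : F.R →+* T) (z) : minor₂ (F.P.map ψ).M (F.P.map ψ).Mm z = ψ (sIJ F z) :=
  minor₂_map ψ F.P.M F.P.Mm z

variable {F}

/-- points of `F.R` are determined by the matrices -/
lemma hom_ext {T : Type u} [CommRing T] {ψ ψ' : F.R →+* T} (h : F.P.map ψ = F.P.map ψ') : ψ = ψ' := by
  have h2 : Set.EqOn ψ ψ' (Set.range F.P.a ∪ Set.range (fun z : Fin F.r1 × Fin D.n => F.P.M z.1 z.2) ∪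
    Set.range (fun z : Fin F.rm × (Fin D.m → Fin D.n) => F.P.Mm z.1 z.2) ∪
    Set.range (fun z : Fin F.rm × (Fin D.m → Fin F.r1) => F.P.mu z.1 z.2)) := by
    rintro z (((⟨a, rfl⟩ | ⟨z, rfl⟩) | ⟨z, rfl⟩) | ⟨z, rfl⟩)
    · exact RingHom.congr_fun (congrArg FrPt.a h) a
    · exact congrFun (congrFun (congrArg FrPt.M h) z.1) z.2
    · exact congrFun (congrFun (congrArg FrPt.Mm h) z.1) z.2
    · exact congrFun (congrFun (congrArg FrPt.mu h) z.1) z.2
  have h3 := RingHom.eqOn_set_closure h2
  rw [F.gen] at h3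
  ext z
  exact h3 (Subring.mem_top z)

/-- the two matrices are right invertible iff the `sIJ` generate the unit ideal -/
lemma sur_iff {T : Type u} [CommRing T] (ψ : F.R →+* T) :
    ((∃ S : Matrix (Fin D.n) (Fin F.r1) T, (F.P.map ψ).M * S = 1) ∧
      (∃ S : Matrix (Fin D.m → Fin D.n) (Fin F.rm) T, (F.P.map ψ).Mm * S = 1)) ↔
      Ideal.span (Set.range fun z => ψ (sIJ F z)) = ⊤ := by
  rw [exists_rightInv_iff₂]
  have : minor₂ (F.P.map ψ).M (F.P.map ψ).Mm = fun z => ψ (sIJ F z) := funext fun z => sIJ_map F ψ z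
  rw [this]

lemma isFr_of_span {T : Type u} [CommRing T] (ψ : F.R →+* T)
    (h : Ideal.span (Set.range fun z => ψ (sIJ F z)) = ⊤) : IsFr (F.P.map ψ) := by
  obtain ⟨h1, h2⟩ := (sur_iff ψ).mpr h
  exact F.ep ψ h1 h2

variable (F)

/-- **The ring of arrows over `F.R`**: `R1 = F.R ⊗_(A,s) B`, `s` the inclusion, `t` the action. -/
structure Arr (R1 : Type u) [CommRing R1] where
  s : F.R →+* R1
  g : B →+* R1
  h : g.comp G.s = s.comp F.P.a
  desc : ∀ {T : Type u} [CommRing T] (d : F.R →+* T) (γ : B →+* T), γ.comp G.s = d.comp F.P.a →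
    ∃! r : R1 →+* T, r.comp s = d ∧ r.comp g = γ
  t : F.R →+* R1
  tr : IsTrans g (F.P.map s) (F.P.map t)
  th : ThetaEq (F.P.map s) (F.P.map t)

/-- the ring of arrows exists -/
theorem exists_arr : ∃ (R1 : Type u) (_ : CommRing R1), Nonempty (Arr F R1) := by
  let s' := pushout.inl (CommRingCat.ofHom F.P.a) (CommRingCat.ofHom G.s)
  let g' := pushout.inr (CommRingCat.ofHom F.P.a) (CommRingCat.ofHom G.s)
  have h : g'.hom.comp G.s = s'.hom.comp F.P.a :=
    (congrArg CommRingCat.Hom.hom (pushout.condition (f := CommRingCat.ofHom F.P.a)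
      (g := CommRingCat.ofHom G.s))).symm
  obtain ⟨t, h1, h2⟩ := F.act s'.hom g'.hom h
  refine ⟨(pushout (CommRingCat.ofHom F.P.a) (CommRingCat.ofHom G.s) : CommRingCat), inferInstance, ⟨?_⟩⟩
  exact
  { s := s'.hom
    g := g'.hom
    h := h
    desc := by
      intro T _ d γ hγ
      have w : CommRingCat.ofHom F.P.a ≫ CommRingCat.ofHom d = CommRingCat.ofHom G.s ≫ CommRingCat.ofHom γ := by
        ext z
        exact (RingHom.congr_fun hγ z).symm
      refine ⟨(pushout.desc (CommRingCat.ofHom d) (CommRingCat.ofHom γ) w).hom, ⟨?_, ?_⟩, ?_⟩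
      · exact congrArg CommRingCat.Hom.hom (pushout.inl_desc (CommRingCat.ofHom d) (CommRingCat.ofHom γ) w)
      · exact congrArg CommRingCat.Hom.hom (pushout.inr_desc (CommRingCat.ofHom d) (CommRingCat.ofHom γ) w)
      · rintro r ⟨hr1, hr2⟩
        have : CommRingCat.ofHom r = pushout.desc (CommRingCat.ofHom d) (CommRingCat.ofHom γ) w := by
          apply pushout.hom_ext
          · rw [pushout.inl_desc]
            ext z
            exact RingHom.congr_fun hr1 z
          · rw [pushout.inr_desc]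
            ext z
            exact RingHom.congr_fun hr2 z
        rw [← this]
        rfl
    t := t
    tr := h1
    th := h2 }

namespace Arr

variable {F} {R1 : Type u} [CommRing R1] (a : Arr F R1)

lemma isPushout : IsPushout (CommRingCat.ofHom F.P.a) (CommRingCat.ofHom G.s) (CommRingCat.ofHom a.s)
    (CommRingCat.ofHom a.g) := by
  have hc : ∀ c : PushoutCocone (CommRingCat.ofHom F.P.a) (CommRingCat.ofHom G.s),
      c.inr.hom.comp G.s = c.inl.hom.comp F.P.a := fun c => (congrArg CommRingCat.Hom.hom c.condition).symm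
  have hd := fun c : PushoutCocone (CommRingCat.ofHom F.P.a) (CommRingCat.ofHom G.s) =>
    a.desc c.inl.hom c.inr.hom (hc c)
  refine ⟨⟨?_⟩, ⟨PushoutCocone.IsColimit.mk _ (fun c => CommRingCat.ofHom (hd c).choose) ?_ ?_ ?_⟩⟩
  · ext z
    exact (RingHom.congr_fun a.h z).symm
  · intro c
    ext z
    exact RingHom.congr_fun (hd c).choose_spec.1.1 z
  · intro c
    ext z
    exact RingHom.congr_fun (hd c).choose_spec.1.2 z
  · intro c m h1 h2
    have := (hd c).choose_spec.2 m.hom
      ⟨congrArg CommRingCat.Hom.hom h1, congrArg CommRingCat.Hom.hom h2⟩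
    ext z
    exact RingHom.congr_fun this z

/-- properties of ring maps stable under base change pass from `G.s` to `a.s` -/
lemma stable {Q : ∀ {R S : Type u} [CommRing R] [CommRing S], (R →+* S) → Prop}
    (hQ : RingHom.IsStableUnderBaseChange Q) (h : Q G.s) : Q a.s := by
  let _ := F.P.a.toAlgebra
  let _ := G.s.toAlgebra
  let _ := a.s.toAlgebra
  let _ := a.g.toAlgebra
  let _ := (a.g.comp G.s).toAlgebra
  have : IsScalarTower A B R1 := IsScalarTower.of_algebraMap_eq fun _ => rfl
  have : IsScalarTower A F.R R1 := IsScalarTower.of_algebraMap_eq fun z => RingHom.congr_fun a.h z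
  have h1 : IsPushout (CommRingCat.ofHom (algebraMap A F.R)) (CommRingCat.ofHom (algebraMap A B))
    (CommRingCat.ofHom (algebraMap F.R R1)) (CommRingCat.ofHom (algebraMap B R1)) := a.isPushout
  have h2 := CommRingCat.isPushout_iff_isPushout.mp h1
  have := h2.symm
  exact hQ A B F.R R1 h

lemma flat (hs : G.s.Flat) : a.s.Flat := a.stable RingHom.Flat.isStableUnderBaseChange hs

lemma finiteType (hs : G.s.FiniteType) : a.s.FiniteType :=
  a.stable RingHom.finiteType_isStableUnderBaseChange hs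

lemma theta_eq : a.s.comp (theta F.P) = a.t.comp (theta F.P) := by
  rw [← theta_map, ← theta_map]
  exact thetaEq_iff.mp a.th

/-- the arrow of a point of `R1` -/
lemma isTrans {T : Type u} [CommRing T] (r : R1 →+* T) :
    IsTrans (r.comp a.g) (F.P.map (r.comp a.s)) (F.P.map (r.comp a.t)) := IsTrans_map a.tr r

/-- **(INV)** -/
theorem inv (hN : N4' D F.r1 F.rm) (hs : G.s.Flat) {T : Type u} [CommRing T] (r : R1 →+* T) :
    Ideal.span (Set.range fun z => r (a.s (sIJ F z))) = ⊤ ↔
      Ideal.span (Set.range fun z => r (a.t (sIJ F z))) = ⊤ := by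
  have h1 := sur_iff (F := F) (r.comp a.s)
  have h2 := sur_iff (F := F) (r.comp a.t)
  have ht := a.isTrans r
  constructor
  · intro h
    exact h2.mp (hN hs _ _ _ (isFr_of_span (r.comp a.s) h) ht)
  · intro h
    obtain ⟨⟨S, hS⟩, ⟨S', hS'⟩⟩ := h2.mpr h
    refine h1.mp ⟨⟨(Matrix.of fun i j => (r.comp a.g) (G.i (D.g i j))) * S, ?_⟩,
      ⟨(Matrix.of fun I J => ∏ l, (r.comp a.g) (G.i (D.g (I l) (J l)))) * S', ?_⟩⟩
    · rw [← Matrix.mul_assoc, ← hS]
      congr 1
      ext b j
      rw [ht.hM, Matrix.mul_apply]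
      rfl
    · rw [← Matrix.mul_assoc, ← hS']
      congr 1
      ext b J
      rw [ht.hMm, Matrix.mul_apply]
      rfl

/-- **(PTS)** -/
theorem pts (hN : N4 D F.r1 F.rm) (hs : G.s.Flat) {T : Type u} [CommRing T] (d d' : F.R →+* T)
    (hθ : d.comp (theta F.P) = d'.comp (theta F.P)) (h : Ideal.span (Set.range fun z => d (sIJ F z)) = ⊤)
    (h' : Ideal.span (Set.range fun z => d' (sIJ F z)) = ⊤) :
    ∃! r : R1 →+* T, r.comp a.s = d ∧ r.comp a.t = d' := by
  have hθ' : ThetaEq (F.P.map d) (F.P.map d') := by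
    rw [thetaEq_iff, theta_map, theta_map, hθ]
  obtain ⟨γ, hγ, huniq⟩ := hN hs _ _ (isFr_of_span d h) (isFr_of_span d' h') hθ'
  obtain ⟨r, ⟨hr1, hr2⟩, hr3⟩ := a.desc d γ hγ.src
  have ht := a.isTrans r
  refine ⟨r, ⟨hr1, ?_⟩, ?_⟩
  · rw [hr1, hr2] at ht
    exact hom_ext (IsTrans_unique ht hγ)
  · rintro r' ⟨h1, h2⟩
    have ht' := a.isTrans r'
    rw [h1, h2] at ht'
    exact hr3 r' ⟨h1, huniq _ ht'⟩

end Arr

end ring

end Groth.Agent.ResProp.EF.K819
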