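import Groth.Agent.ResProp.EF.K412.Mid
import Groth.Agent.ResProp.EF.K478.SecBC
import Groth.Agent.ResProp.EF.K786.N4

/-!
# G1: `D1` is sheafy for `σ (s_IJ)` and for `τ (s_IJ)` (helper819)

For `m : MidData F`, `G.s` flat, `D0` sheafy for the `s_IJ` (478's `Sheafy`).
-/

set_option autoImplicit false
universe u

open Groth.Agent.Grpsch.AffGrpd CategoryTheory CategoryTheory.Limits

namespace Groth.Agent.ResProp.EF.K819

open Groth.Agent.ResProp.EF.K412

/-- properties stable under base change, for a pushout given by its universal property -/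
theorem stable_of_po {A B D0 D1 : Type u} [CommRing A] [CommRing B] [CommRing D0] [CommRing D1] (p : A →+* D0)
    (s : A →+* B) (σ : D0 →+* D1) (g : B →+* D1) (h : g.comp s = σ.comp p)
    (po : ∀ {T : Type u} [CommRing T] (d : D0 →+* T) (γ : B →+* T), γ.comp s = d.comp p →
      ∃! r : D1 →+* T, r.comp σ = d ∧ r.comp g = γ)
    {Q : ∀ {R S : Type u} [CommRing R] [CommRing S], (R →+* S) → Prop}
    (hQ : RingHom.IsStableUnderBaseChange Q) (hs : Q s) : Q σ := by
  have hpo : IsPushout (CommRingCat.ofHom p) (CommRingCat.ofHom s) (CommRingCat.ofHom σ)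
      (CommRingCat.ofHom g) := by
    have hc : ∀ c : PushoutCocone (CommRingCat.ofHom p) (CommRingCat.ofHom s),
        c.inr.hom.comp s = c.inl.hom.comp p := fun c => (congrArg CommRingCat.Hom.hom c.condition).symm
    have hd := fun c : PushoutCocone (CommRingCat.ofHom p) (CommRingCat.ofHom s) =>
      po c.inl.hom c.inr.hom (hc c)
    refine ⟨⟨?_⟩, ⟨PushoutCocone.IsColimit.mk _ (fun c => CommRingCat.ofHom (hd c).choose) ?_ ?_ ?_⟩⟩
    · ext z
      exact (RingHom.congr_fun h z).symm
    · intro c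
      ext z
      exact RingHom.congr_fun (hd c).choose_spec.1.1 z
    · intro c
      ext z
      exact RingHom.congr_fun (hd c).choose_spec.1.2 z
    · intro c m h1 h2
      have := (hd c).choose_spec.2 m.hom
        ⟨congrArg CommRingCat.Hom.hom h1, congrArg CommRingCat.Hom.hom h2⟩
      ext z
      exact RingHom.congr_fun this z
  let _ := p.toAlgebra
  let _ := s.toAlgebra
  let _ := σ.toAlgebra
  let _ := g.toAlgebra
  let _ := (g.comp s).toAlgebra
  have : IsScalarTower A B D1 := IsScalarTower.of_algebraMap_eq fun _ => rfl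
  have : IsScalarTower A D0 D1 := IsScalarTower.of_algebraMap_eq fun z => RingHom.congr_fun h z
  have h1 : IsPushout (CommRingCat.ofHom (algebraMap A D0)) (CommRingCat.ofHom (algebraMap A B))
    (CommRingCat.ofHom (algebraMap D0 D1)) (CommRingCat.ofHom (algebraMap B D1)) := hpo
  have h2 := CommRingCat.isPushout_iff_isPushout.mp h1
  have := h2.symm
  exact hQ A B D0 D1 hs

variable {A B : Type u} [CommRing A] [CommRing B] {Lb : Type u} [CommRing Lb] [Algebra Lb A] {G : RGrpd A B}
  {D : Gen Lb G} {κ : Type u} [Field κ] {x : A →+* κ} {F : FrRing D x} (m : MidData F)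

theorem sigma_stable {Q : ∀ {R S : Type u} [CommRing R] [CommRing S], (R →+* S) → Prop}
    (hQ : RingHom.IsStableUnderBaseChange Q) (hs : Q G.s) : Q m.σ :=
  stable_of_po ((algebraMap F.R m.D0).comp F.P.a) G.s m.σ m.g m.hg (fun d γ h => m.po d γ h) hQ hs

theorem sigma_flat (hs : G.s.Flat) : m.σ.Flat := sigma_stable m RingHom.Flat.isStableUnderBaseChange hs

theorem sigma_finiteType (hs : G.s.FiniteType) : m.σ.FiniteType :=
  sigma_stable m RingHom.finiteType_isStableUnderBaseChange hs

/-- the arrow of a point of `D1` -/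
theorem isTrans_point {T : Type u} [CommRing T] (y : m.D1 →+* T) :
    IsTrans (y.comp m.g) (F.P.map ((y.comp m.σ).comp (algebraMap F.R m.D0)))
      (F.P.map ((y.comp m.τ).comp (algebraMap F.R m.D0))) := IsTrans_map m.tr y

/-- **INV on `D1`**, pointwise -/
theorem span_inv (hs : G.s.Flat) {T : Type u} [CommRing T] (y : m.D1 →+* T) :
    Ideal.span (Set.range fun z => y (m.σ (algebraMap F.R m.D0 (sIJ F z)))) = ⊤ →
      Ideal.span (Set.range fun z => y (m.τ (algebraMap F.R m.D0 (sIJ F z)))) = ⊤ := by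
  intro h
  exact (sur_iff (F := F) ((y.comp m.τ).comp (algebraMap F.R m.D0))).mp
    (K786.n4' D F.r1 F.rm hs _ _ _ (isFr_of_span ((y.comp m.σ).comp (algebraMap F.R m.D0)) h) (isTrans_point m y))

/-- the other direction -/
theorem span_inv' {T : Type u} [CommRing T] (y : m.D1 →+* T) :
    Ideal.span (Set.range fun z => y (m.τ (algebraMap F.R m.D0 (sIJ F z)))) = ⊤ →
      Ideal.span (Set.range fun z => y (m.σ (algebraMap F.R m.D0 (sIJ F z)))) = ⊤ := by
  intro h
  have ht := isTrans_point m y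
  obtain ⟨⟨S, hS⟩, ⟨S', hS'⟩⟩ := (sur_iff (F := F) ((y.comp m.τ).comp (algebraMap F.R m.D0))).mpr h
  refine (sur_iff (F := F) ((y.comp m.σ).comp (algebraMap F.R m.D0))).mp
    ⟨⟨(Matrix.of fun i j => (y.comp m.g) (G.i (D.g i j))) * S, ?_⟩,
      ⟨(Matrix.of fun I J => ∏ l, (y.comp m.g) (G.i (D.g (I l) (J l)))) * S', ?_⟩⟩
  · rw [← Matrix.mul_assoc, ← hS]
    congr 1
    ext b j
    rw [ht.hM, Matrix.mul_apply]
    rfl
  · rw [← Matrix.mul_assoc, ← hS']
    congr 1
    ext b J
    rw [ht.hMm, Matrix.mul_apply]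
    rfl

/-- an ideal which becomes the unit ideal in `R[1/f]` contains a power of `f` -/
theorem mem_radical_of_away {R : Type u} [CommRing R] {ι : Type*} (t : ι → R) (f : R)
    (h : Ideal.span (Set.range fun i => algebraMap R (Localization.Away f) (t i)) = ⊤) :
    f ∈ (Ideal.span (Set.range t)).radical := by
  by_contra hf
  have h1 : (Ideal.span (Set.range t)).map (algebraMap R (Localization.Away f)) = ⊤ := by
    rw [Ideal.map_span, ← Set.range_comp]
    exact h
  refine ((IsLocalization.map_algebraMap_ne_top_iff_disjoint (Submonoid.powers f) (Localization.Away f)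
    (Ideal.span (Set.range t))).mpr ?_) h1
  rw [Set.disjoint_left]
  rintro _ ⟨n, rfl⟩ hn
  exact hf ⟨n, hn⟩

theorem span_top_of_isUnit {T : Type u} [CommRing T] {ι : Type*} {t : ι → T} {i : ι} (h : IsUnit (t i)) :
    Ideal.span (Set.range t) = ⊤ := Ideal.eq_top_of_isUnit_mem _ (Ideal.subset_span ⟨i, rfl⟩) h

theorem sigma_mem_radical (hs : G.s.Flat) (z : (Fin F.r1 → Fin D.n) × (Fin F.rm → (Fin D.m → Fin D.n))) :
    m.σ (algebraMap F.R m.D0 (sIJ F z)) ∈
      (Ideal.span (Set.range fun z => m.τ (algebraMap F.R m.D0 (sIJ F z)))).radical := by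
  refine mem_radical_of_away _ _ (span_inv m hs (algebraMap m.D1 _) (span_top_of_isUnit (i := z) ?_))
  exact IsLocalization.Away.algebraMap_isUnit _

theorem tau_mem_radical (z : (Fin F.r1 → Fin D.n) × (Fin F.rm → (Fin D.m → Fin D.n))) :
    m.τ (algebraMap F.R m.D0 (sIJ F z)) ∈
      (Ideal.span (Set.range fun z => m.σ (algebraMap F.R m.D0 (sIJ F z)))).radical := by
  refine mem_radical_of_away _ _ (span_inv' m (algebraMap m.D1 _) (span_top_of_isUnit (i := z) ?_))
  exact IsLocalization.Away.algebraMap_isUnit _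

/-- **`D1` is sheafy for `σ (s_IJ)`** -/
theorem sheafy_sigma (hs : G.s.Flat) (sec : K478.Sheafy fun z => algebraMap F.R m.D0 (sIJ F z)) :
    K478.Sheafy fun z => m.σ (algebraMap F.R m.D0 (sIJ F z)) := by
  let _ := m.σ.toAlgebra
  have : Module.Flat m.D0 m.D1 := sigma_flat m hs
  exact sec.of_flat (E := m.D1)

/-- **`D1` is sheafy for `τ (s_IJ)`** -/
theorem sheafy_tau (hs : G.s.Flat) (sec : K478.Sheafy fun z => algebraMap F.R m.D0 (sIJ F z)) :
    K478.Sheafy fun z => m.τ (algebraMap F.R m.D0 (sIJ F z)) :=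
  (sheafy_sigma m hs sec).mono fun z => sigma_mem_radical m hs z

end Groth.Agent.ResProp.EF.K819
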