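import Groth.Agent.ResProp.EF.K478.SecBC
import Groth.Agent.ResProp.EF.K83.FinDatum

/-!
# The coaction on a ring of sections (helper819)

`c : R → D` the ring of sections over `⋃ D(s i)` (478's `IsSec`), `O` a flat Hopf algebra coacting on `R`, the `s i`
semi-invariant with invertible weights: the coaction extends uniquely to `D`.
-/

set_option autoImplicit false
universe u

open TensorProduct Groth.Agent.ResProp.EF.K83 Groth.Agent.ResProp.EF.K478

noncomputable section

namespace Groth.Agent.ResProp.EF.K819

/-- multiplying the `t i` by units -/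
theorem sheafy_mul_unit {ι D : Type*} [CommRing D] [Finite ι] {t : ι → D} (h : Sheafy t) {u : ι → D}
    (hu : ∀ i, IsUnit (u i)) : Sheafy fun i => t i * u i := by
  refine h.mono fun i => Ideal.le_radical ?_
  obtain ⟨v, hv⟩ := hu i
  have : t i = (t i * u i) * ((v⁻¹ : Dˣ) : D) := by rw [← hv, mul_assoc, Units.mul_inv, mul_one]
  rw [this]
  exact Ideal.mul_mem_right _ _ (Ideal.subset_span ⟨i, rfl⟩)

section

variable {k R D O : Type u} [CommRing k] [CommRing R] [CommRing D] [CommRing O] [Algebra k R] [Algebra k D]
  [HopfAlgebra k O] {ι : Type*} [Finite ι]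

/-- sheafy for the `t i ⊗ u i`, `u i` units of a flat algebra -/
theorem sheafy_tmul {P : Type u} [CommRing P] [Algebra k P] [Module.Flat k P] {t : ι → D} (h : Sheafy t) {u : ι → P}
    (hu : ∀ i, IsUnit (u i)) : Sheafy fun i => t i ⊗ₜ[k] u i := by
  have h1 := sheafy_mul_unit (h.tensor (k := k) (O := P)) (u := fun i => (1 : D) ⊗ₜ[k] u i)
    (fun i => (hu i).map (Algebra.TensorProduct.includeRight : P →ₐ[k] D ⊗[k] P))
  simpa only [Algebra.TensorProduct.tmul_mul_tmul, mul_one, one_mul] using h1

variable {c : R →ₐ[k] D} {s : ι → R} (h : IsSec c.toRingHom s) (cR : CoAlg k O R) {χ : ι → O}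
  (hχ : ∀ i, IsUnit (χ i)) (hs : ∀ i, cR.ρ (s i) = s i ⊗ₜ[k] χ i)

/-- `k`-algebra maps out of the ring of sections -/
theorem secHom_ext {D' : Type u} [CommRing D'] [Algebra k D'] (h : IsSec c.toRingHom s) {f g : D →ₐ[k] D'}
    (hf : Sheafy fun i => f (c (s i))) (hfg : ∀ r, f (c r) = g (c r)) : f = g := by
  have := h.hom_ext (f := f.toRingHom) (g := g.toRingHom) hf (RingHom.ext hfg)
  ext d
  exact RingHom.congr_fun this d

/-- `k`-algebra maps out of the ring of sections -/
theorem exists_secLift {D' : Type u} [CommRing D'] [Algebra k D'] (h : IsSec c.toRingHom s) (φ : R →ₐ[k] D')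
    (hφ : Sheafy fun i => φ (s i)) : ∃ f : D →ₐ[k] D', ∀ r, f (c r) = φ r := by
  refine ⟨{ h.lift φ.toRingHom hφ with
    commutes' := fun r => ?_ }, fun r => h.lift_apply φ.toRingHom hφ r⟩
  have h1 := h.lift_apply φ.toRingHom hφ (algebraMap k R r)
  have h2 : c.toRingHom (algebraMap k R r) = algebraMap k D r := c.commutes r
  have h3 : φ.toRingHom (algebraMap k R r) = algebraMap k D' r := φ.commutes r
  rw [h2, h3] at h1
  exact h1

include h hχ hs in
/-- **the coaction on the ring of sections** -/
theorem exists_coAlg_sec [Module.Flat k O] : ∃ cD : CoAlg k O D,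
    ∀ r, cD.ρ (c r) = Algebra.TensorProduct.map c (AlgHom.id k O) (cR.ρ r) := by
  obtain ⟨ρ, hρ⟩ := exists_secLift (D' := D ⊗[k] O) h ((Algebra.TensorProduct.map c (AlgHom.id k O)).comp cR.ρ) (by
    have h1 := sheafy_tmul (k := k) h.sh hχ
    have h2 : (fun i => ((Algebra.TensorProduct.map c (AlgHom.id k O)).comp cR.ρ) (s i)) =
        fun i => c.toRingHom (s i) ⊗ₜ[k] χ i := by
      funext i
      rw [AlgHom.comp_apply, hs, Algebra.TensorProduct.map_tmul]
      rfl
    rw [h2]
    exact h1)
  have hρs : ∀ i, ρ (c (s i)) = c (s i) ⊗ₜ[k] χ i := fun i => by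
    rw [hρ, AlgHom.comp_apply, hs, Algebra.TensorProduct.map_tmul]
    rfl
  refine ⟨⟨ρ, ?_, ?_⟩, hρ⟩
  · -- coassociativity
    let f : D →ₐ[k] D ⊗[k] (O ⊗[k] O) :=
      (Algebra.TensorProduct.map (AlgHom.id k D) (Bialgebra.comulAlgHom k O)).comp ρ
    let g : D →ₐ[k] D ⊗[k] (O ⊗[k] O) :=
      ((Algebra.TensorProduct.assoc k k k D O O : _ →ₐ[k] _).comp
        (Algebra.TensorProduct.map ρ (AlgHom.id k O))).comp ρ
    have key : f = g := by
      refine secHom_ext h ?_ fun r => ?_
      · have h1 := sheafy_tmul (k := k) (P := O ⊗[k] O) h.sh (u := fun i => Bialgebra.comulAlgHom k O (χ i))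
          (fun i => (hχ i).map _)
        have h2 : (fun i => f (c (s i))) = fun i => c.toRingHom (s i) ⊗ₜ[k] Bialgebra.comulAlgHom k O (χ i) := by
          funext i
          change Algebra.TensorProduct.map (AlgHom.id k D) (Bialgebra.comulAlgHom k O) (ρ (c (s i))) = _
          rw [hρs, Algebra.TensorProduct.map_tmul]
          rfl
        rw [h2]
        exact h1
      · have e := congrArg (Algebra.TensorProduct.map c (AlgHom.id k (O ⊗[k] O))) (cR.coassoc r)
        have e1 : ∀ y : R ⊗[k] O, Algebra.TensorProduct.map c (AlgHom.id k (O ⊗[k] O))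
            ((Coalgebra.comul (R := k) (A := O)).lTensor R y) =
            Algebra.TensorProduct.map (AlgHom.id k D) (Bialgebra.comulAlgHom k O)
              (Algebra.TensorProduct.map c (AlgHom.id k O) y) := by
          intro y
          induction y using TensorProduct.induction_on with
          | zero => simp
          | tmul a b => rfl
          | add a b ha hb => simp only [map_add, ha, hb]
        have e2 : ∀ y : R ⊗[k] O, Algebra.TensorProduct.map c (AlgHom.id k (O ⊗[k] O))
            (TensorProduct.assoc k R O O (cR.ρ.toLinearMap.rTensor O y)) =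
            Algebra.TensorProduct.assoc k k k D O O
              (Algebra.TensorProduct.map ρ (AlgHom.id k O) (Algebra.TensorProduct.map c (AlgHom.id k O) y)) := by
          intro y
          induction y using TensorProduct.induction_on with
          | zero => simp
          | tmul a b =>
            change Algebra.TensorProduct.map c (AlgHom.id k (O ⊗[k] O)) (TensorProduct.assoc k R O O (cR.ρ a ⊗ₜ[k] b)) =
              TensorProduct.assoc k D O O (ρ (c a) ⊗ₜ[k] b)
            rw [hρ a, AlgHom.comp_apply]
            generalize cR.ρ a = y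
            induction y using TensorProduct.induction_on with
            | zero => simp
            | tmul a' b' => rfl
            | add a' b' ha hb => simp only [TensorProduct.add_tmul, map_add, ha, hb]
          | add a b ha hb => simp only [map_add, ha, hb]
        rw [e1, e2] at e
        have hρr : ρ (c r) = Algebra.TensorProduct.map c (AlgHom.id k O) (cR.ρ r) := hρ r
        change Algebra.TensorProduct.map (AlgHom.id k D) (Bialgebra.comulAlgHom k O) (ρ (c r)) =
          Algebra.TensorProduct.assoc k k k D O O (Algebra.TensorProduct.map ρ (AlgHom.id k O) (ρ (c r)))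
        rw [hρr]
        exact e.symm
    intro x
    exact (AlgHom.congr_fun key x).symm
  · let f : D →ₐ[k] D ⊗[k] k :=
      (Algebra.TensorProduct.map (AlgHom.id k D) (Bialgebra.counitAlgHom k O)).comp ρ
    let g : D →ₐ[k] D ⊗[k] k := Algebra.TensorProduct.includeLeft
    have key : g = f := by
      refine secHom_ext h ?_ fun r => ?_
      · exact sheafy_tmul (k := k) (P := k) h.sh (u := fun _ => (1 : k)) (fun _ => isUnit_one)
      · have e := congrArg (Algebra.TensorProduct.map c (AlgHom.id k k)) (cR.counit r)
        have e1 : ∀ y : R ⊗[k] O, Algebra.TensorProduct.map c (AlgHom.id k k)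
            ((Coalgebra.counit (R := k) (A := O)).lTensor R y) =
            Algebra.TensorProduct.map (AlgHom.id k D) (Bialgebra.counitAlgHom k O)
              (Algebra.TensorProduct.map c (AlgHom.id k O) y) := by
          intro y
          induction y using TensorProduct.induction_on with
          | zero => simp
          | tmul a b => rfl
          | add a b ha hb => simp only [map_add, ha, hb]
        rw [e1] at e
        have hρr : ρ (c r) = Algebra.TensorProduct.map c (AlgHom.id k O) (cR.ρ r) := hρ r
        change c r ⊗ₜ[k] (1 : k) = Algebra.TensorProduct.map (AlgHom.id k D) (Bialgebra.counitAlgHom k O) (ρ (c r))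
        rw [hρr, e]
        rfl
    intro x
    exact (AlgHom.congr_fun key x).symm

end

end Groth.Agent.ResProp.EF.K819
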