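import Groth.Agent.ResProp.EF.K412.Asm
import Groth.Agent.ResProp.EF.K62.RhoPt
import Groth.Agent.ResProp.EF.K748.Inv
import Groth.Agent.ResProp.EF.K819.MidSheafy
import Groth.Agent.ResProp.EF.K819.SecCo

/-!
# G1, node M2: the coactions on `D0`, `D1`, `B0` (helper819)

`coMid` : for `M : MidData F` with `D0` = sections over `⋃ D(s_IJ)` (478's `IsSec`), `G.s` flat, `O` flat: `Nonempty (CoMid M hX hXm)`.
-/

set_option autoImplicit false
universe u

open Groth.Agent.Grpsch.AffGrpd TensorProduct Groth.Agent.ResProp.EF.K83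

noncomputable section

namespace Groth.Agent.ResProp.EF.K819.M2

open Groth.Agent.ResProp.EF.K412

section transfer

variable {k R D O : Type u} [CommRing k] [CommRing R] [CommRing D] [CommRing O] [Algebra k R] [Algebra k D]
  [HopfAlgebra k O] {c : R →ₐ[k] D} (cR : CoAlg k O R) (ρ : D →ₐ[k] D ⊗[k] O)
  (hρ : ∀ r, ρ (c r) = Algebra.TensorProduct.map c (AlgHom.id k O) (cR.ρ r))

include hρ in
/-- coassociativity passes along an equivariant map -/
theorem coassoc_at (r : R) : TensorProduct.assoc k D O O (ρ.toLinearMap.rTensor O (ρ (c r))) =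
    (Coalgebra.comul (R := k) (A := O)).lTensor D (ρ (c r)) := by
  have e := congrArg (Algebra.TensorProduct.map c (AlgHom.id k (O ⊗[k] O))) (cR.coassoc r)
  have e1 : ∀ y : R ⊗[k] O, Algebra.TensorProduct.map c (AlgHom.id k (O ⊗[k] O))
      ((Coalgebra.comul (R := k) (A := O)).lTensor R y) =
      (Coalgebra.comul (R := k) (A := O)).lTensor D (Algebra.TensorProduct.map c (AlgHom.id k O) y) := by
    intro y
    induction y using TensorProduct.induction_on with
    | zero => simp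
    | tmul a b => rfl
    | add a b ha hb => simp only [map_add, ha, hb]
  have e2 : ∀ y : R ⊗[k] O, Algebra.TensorProduct.map c (AlgHom.id k (O ⊗[k] O))
      (TensorProduct.assoc k R O O (cR.ρ.toLinearMap.rTensor O y)) =
      TensorProduct.assoc k D O O (ρ.toLinearMap.rTensor O (Algebra.TensorProduct.map c (AlgHom.id k O) y)) := by
    intro y
    induction y using TensorProduct.induction_on with
    | zero => simp
    | tmul a b =>
      change Algebra.TensorProduct.map c (AlgHom.id k (O ⊗[k] O)) (TensorProduct.assoc k R O O (cR.ρ a ⊗ₜ[k] b)) =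
        TensorProduct.assoc k D O O (ρ (c a) ⊗ₜ[k] b)
      rw [hρ a]
      generalize cR.ρ a = y
      induction y using TensorProduct.induction_on with
      | zero => simp
      | tmul a' b' => rfl
      | add a' b' ha hb => simp only [TensorProduct.add_tmul, map_add, ha, hb]
    | add a b ha hb => simp only [map_add, ha, hb]
  rw [e1, e2, ← hρ] at e
  exact e

include hρ in
/-- counitality passes along an equivariant map -/
theorem counit_at (r : R) : (Coalgebra.counit (R := k) (A := O)).lTensor D (ρ (c r)) = c r ⊗ₜ[k] (1 : k) := by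
  have e := congrArg (Algebra.TensorProduct.map c (AlgHom.id k k)) (cR.counit r)
  have e1 : ∀ y : R ⊗[k] O, Algebra.TensorProduct.map c (AlgHom.id k k)
      ((Coalgebra.counit (R := k) (A := O)).lTensor R y) =
      (Coalgebra.counit (R := k) (A := O)).lTensor D (Algebra.TensorProduct.map c (AlgHom.id k O) y) := by
    intro y
    induction y using TensorProduct.induction_on with
    | zero => simp
    | tmul a b => rfl
    | add a b ha hb => simp only [map_add, ha, hb]
  rw [e1, ← hρ] at e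
  exact e

end transfer

variable {A B : Type u} [CommRing A] [CommRing B] {Lb : Type u} [CommRing Lb] [Algebra Lb A] {G : RGrpd A B}
  {D : Gen Lb G} {κ : Type u} [Field κ] {x : A →+* κ} {F : FrRing D x} (M : MidData F)

/-- ring maps out of `D1` -/
theorem d1_hom_ext {T : Type u} [CommRing T] {f f' : M.D1 →+* T} (hσ : ∀ z, f (M.σ z) = f' (M.σ z))
    (hg : ∀ b, f (M.g b) = f' (M.g b)) : f = f' := by
  have e : (f.comp M.g).comp G.s = ((f.comp M.σ).comp (algebraMap F.R M.D0)).comp F.P.a := by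
    rw [RingHom.comp_assoc, M.hg]
    rfl
  exact (M.po (f.comp M.σ) (f.comp M.g) e).unique ⟨rfl, rfl⟩
    ⟨RingHom.ext fun r => (hσ r).symm, RingHom.ext fun b => (hg b).symm⟩

variable {O : Type u} [CommRing O] [HopfAlgebra Lb O] {X : Matrix (Fin F.r1) (Fin F.r1) O}
  {Xm : Matrix (Fin F.rm) (Fin F.rm) O} (hX : K62.IsMulMat Lb X) (hXm : K62.IsMulMat Lb Xm)

/-- **the coaction on `D0`** -/
theorem exists_c0 [Module.Flat Lb O] (sec : K478.IsSec (algebraMap F.R M.D0) (sIJ F)) : ∃ c0 : CoAlg Lb O M.D0,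
    ∀ z : F.R, c0.ρ (algebraMap F.R M.D0 z) =
      Algebra.TensorProduct.map (IsScalarTower.toAlgHom Lb F.R M.D0) (AlgHom.id Lb O) (K62.rho F hX hXm z) := by
  have h1 : K478.IsSec (IsScalarTower.toAlgHom Lb F.R M.D0).toRingHom (sIJ F) := sec
  exact exists_coAlg_sec (c := IsScalarTower.toAlgHom Lb F.R M.D0) h1 (K62.coAlg F hX hXm)
    (χ := fun _ => K62.chi F X Xm) (fun _ => K62.isUnit_chi F hX hXm) (fun i => K62.rho_sIJ' F hX hXm i)

section

variable (c0 : CoAlg Lb O M.D0) (h0 : ∀ z : F.R, c0.ρ (algebraMap F.R M.D0 z) =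
  Algebra.TensorProduct.map (IsScalarTower.toAlgHom Lb F.R M.D0) (AlgHom.id Lb O) (K62.rho F hX hXm z))

include h0 in
/-- the coaction on `D1`, as an algebra map -/
theorem exists_rho1 : ∃ ρ1 : M.D1 →ₐ[Lb] M.D1 ⊗[Lb] O,
    (∀ z, ρ1 (M.σ z) = Algebra.TensorProduct.map M.σk (AlgHom.id Lb O) (c0.ρ z)) ∧
    (∀ b, ρ1 (M.g b) = M.g b ⊗ₜ[Lb] (1 : O)) := by
  obtain ⟨r, ⟨h1, h2⟩, -⟩ := M.po
    ((Algebra.TensorProduct.map M.σk (AlgHom.id Lb O)).toRingHom.comp c0.ρ.toRingHom)
    ((Algebra.TensorProduct.includeLeftRingHom : M.D1 →+* M.D1 ⊗[Lb] O).comp M.g) (by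
      ext z
      change M.g (G.s z) ⊗ₜ[Lb] (1 : O) =
        Algebra.TensorProduct.map M.σk (AlgHom.id Lb O) (c0.ρ (algebraMap F.R M.D0 (F.P.a z)))
      rw [h0, K62.rho_a, Algebra.TensorProduct.map_tmul, Algebra.TensorProduct.map_tmul]
      exact congrArg (· ⊗ₜ[Lb] (1 : O)) (RingHom.congr_fun M.hg z))
  have h1' : ∀ z, r (M.σ z) = Algebra.TensorProduct.map M.σk (AlgHom.id Lb O) (c0.ρ z) :=
    fun z => RingHom.congr_fun h1 z
  refine ⟨{ r with commutes' := fun l => ?_ }, h1', fun b => RingHom.congr_fun h2 b⟩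
  have h3 := h1' (algebraMap Lb M.D0 l)
  rw [AlgHom.commutes, AlgHom.commutes] at h3
  exact h3

include h0 in
/-- the coaction on `D1` and `τ` -/
theorem rho1_tau (hs : G.s.Flat) [Module.Flat Lb O] (sec : K478.IsSec (algebraMap F.R M.D0) (sIJ F))
    (ρ1 : M.D1 →ₐ[Lb] M.D1 ⊗[Lb] O)
    (h1 : ∀ z, ρ1 (M.σ z) = Algebra.TensorProduct.map M.σk (AlgHom.id Lb O) (c0.ρ z))
    (h2 : ∀ b, ρ1 (M.g b) = M.g b ⊗ₜ[Lb] (1 : O)) (z : M.D0) :
    ρ1 (M.τ z) = Algebra.TensorProduct.map M.τk (AlgHom.id Lb O) (c0.ρ z) := by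
  have hsec : K478.IsSec (IsScalarTower.toAlgHom Lb F.R M.D0).toRingHom (sIJ F) := sec
  have key : (Algebra.TensorProduct.map M.τk (AlgHom.id Lb O)).comp c0.ρ = ρ1.comp M.τk := by
    refine secHom_ext hsec ?_ fun r => ?_
    · have h3 := sheafy_tmul (k := Lb) (sheafy_tau M hs sec.sh) (u := fun _ => K62.chi F X Xm)
        (fun _ => K62.isUnit_chi F hX hXm)
      have h4 : (fun i => ((Algebra.TensorProduct.map M.τk (AlgHom.id Lb O)).comp c0.ρ)
          (IsScalarTower.toAlgHom Lb F.R M.D0 (sIJ F i))) =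
          fun i => M.τ (algebraMap F.R M.D0 (sIJ F i)) ⊗ₜ[Lb] K62.chi F X Xm := by
        funext i
        have h5 : c0.ρ (IsScalarTower.toAlgHom Lb F.R M.D0 (sIJ F i)) =
          Algebra.TensorProduct.map (IsScalarTower.toAlgHom Lb F.R M.D0) (AlgHom.id Lb O)
            (K62.rho F hX hXm (sIJ F i)) := h0 _
        rw [AlgHom.comp_apply, h5, K62.rho_sIJ', Algebra.TensorProduct.map_tmul, Algebra.TensorProduct.map_tmul]
        rfl
      rw [h4]
      exact h3
    · have h5 : c0.ρ (IsScalarTower.toAlgHom Lb F.R M.D0 r) =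
        Algebra.TensorProduct.map (IsScalarTower.toAlgHom Lb F.R M.D0) (AlgHom.id Lb O)
          (K62.rho F hX hXm r) := h0 _
      rw [AlgHom.comp_apply, AlgHom.comp_apply, h5]
      have h6 := K62.rho_tau F hX hXm (M.σk.comp (IsScalarTower.toAlgHom Lb F.R M.D0))
        (M.τk.comp (IsScalarTower.toAlgHom Lb F.R M.D0)) M.g M.tr ρ1.toRingHom h2 (fun r => by
          have h7 : ρ1 (M.σ (algebraMap F.R M.D0 r)) =
            Algebra.TensorProduct.map M.σk (AlgHom.id Lb O) (c0.ρ (algebraMap F.R M.D0 r)) := h1 _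
          change ρ1 (M.σ (algebraMap F.R M.D0 r)) = _
          rw [h7, h0]
          generalize K62.rho F hX hXm r = y
          induction y using TensorProduct.induction_on with
          | zero => simp
          | tmul a b => rfl
          | add a b ha hb => simp only [map_add, ha, hb]) r
      change _ = ρ1.toRingHom ((M.τk.comp (IsScalarTower.toAlgHom Lb F.R M.D0)) r)
      rw [h6]
      generalize K62.rho F hX hXm r = y
      induction y using TensorProduct.induction_on with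
      | zero => simp
      | tmul a b => rfl
      | add a b ha hb => simp only [map_add, ha, hb]
  exact (AlgHom.congr_fun key z).symm

/-- **the coaction on `D1`** is a comodule algebra -/
theorem exists_c1 (ρ1 : M.D1 →ₐ[Lb] M.D1 ⊗[Lb] O)
    (h1 : ∀ z, ρ1 (M.σ z) = Algebra.TensorProduct.map M.σk (AlgHom.id Lb O) (c0.ρ z))
    (h2 : ∀ b, ρ1 (M.g b) = M.g b ⊗ₜ[Lb] (1 : O)) : ∃ c1 : CoAlg Lb O M.D1, c1.ρ = ρ1 := by
  refine ⟨⟨ρ1, ?_, ?_⟩, rfl⟩
  · let f : M.D1 →ₐ[Lb] M.D1 ⊗[Lb] (O ⊗[Lb] O) :=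
      (Algebra.TensorProduct.map (AlgHom.id Lb M.D1) (Bialgebra.comulAlgHom Lb O)).comp ρ1
    let g : M.D1 →ₐ[Lb] M.D1 ⊗[Lb] (O ⊗[Lb] O) :=
      ((Algebra.TensorProduct.assoc Lb Lb Lb M.D1 O O : _ →ₐ[Lb] _).comp
        (Algebra.TensorProduct.map ρ1 (AlgHom.id Lb O))).comp ρ1
    have key : g.toRingHom = f.toRingHom := by
      refine d1_hom_ext M (fun z => ?_) (fun b => ?_)
      · exact coassoc_at (c := M.σk) c0 ρ1 h1 z
      · change Algebra.TensorProduct.assoc Lb Lb Lb M.D1 O O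
            (Algebra.TensorProduct.map ρ1 (AlgHom.id Lb O) (ρ1 (M.g b))) =
          Algebra.TensorProduct.map (AlgHom.id Lb M.D1) (Bialgebra.comulAlgHom Lb O) (ρ1 (M.g b))
        rw [h2, Algebra.TensorProduct.map_tmul, AlgHom.id_apply, h2, Algebra.TensorProduct.assoc_tmul,
          Algebra.TensorProduct.map_tmul, map_one, AlgHom.id_apply]
        rfl
    intro z
    exact RingHom.congr_fun key z
  · let f : M.D1 →ₐ[Lb] M.D1 ⊗[Lb] Lb :=
      (Algebra.TensorProduct.map (AlgHom.id Lb M.D1) (Bialgebra.counitAlgHom Lb O)).comp ρ1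
    have key : f.toRingHom = (Algebra.TensorProduct.includeLeftRingHom : M.D1 →+* M.D1 ⊗[Lb] Lb) := by
      refine d1_hom_ext M (fun z => ?_) (fun b => ?_)
      · exact counit_at (c := M.σk) c0 ρ1 h1 z
      · change Algebra.TensorProduct.map (AlgHom.id Lb M.D1) (Bialgebra.counitAlgHom Lb O) (ρ1 (M.g b)) =
          M.g b ⊗ₜ[Lb] (1 : Lb)
        rw [h2, Algebra.TensorProduct.map_tmul, map_one, AlgHom.id_apply]
    intro z
    exact RingHom.congr_fun key z

end

/-- **Node M2** -/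
theorem coMid (hs : G.s.Flat) [Module.Flat Lb O] (sec : K478.IsSec (algebraMap F.R M.D0) (sIJ F)) :
    Nonempty (CoMid M hX hXm) := by
  obtain ⟨c0, h0⟩ := exists_c0 M hX hXm sec
  obtain ⟨ρ1, h1, h2⟩ := exists_rho1 M hX hXm c0 h0
  obtain ⟨c1, rfl⟩ := exists_c1 M c0 ρ1 h1 h2
  have h3 := rho1_tau M hX hXm c0 h0 hs sec c1.ρ h1 h2
  obtain ⟨cB, hB⟩ := K748.exists_coAlg_of_eq' (IsScalarTower.toAlgHom Lb M.B0 M.D0) M.inj M.σk M.τk
    (fun z hz => by
      obtain ⟨b, hb⟩ := (M.inv z).mp hz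
      exact ⟨b, hb⟩) c0 c1.ρ h1 h3 (fun b => (M.τ_B b).symm)
  exact ⟨⟨c0, h0, c1, h1, h3, h2, cB, hB⟩⟩

/-- **Node M2**, with the field `sec` of `MidData` -/
theorem m2 (hs : G.s.Flat) [Module.Flat Lb O] : Nonempty (CoMid M hX hXm) := coMid M hX hXm hs M.sec

end Groth.Agent.ResProp.EF.K819.M2
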