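import Groth.Agent.ResProp.EF.K412.Defs
import Mathlib.LinearAlgebra.TensorProduct.Vanishing
import Mathlib.RingTheory.Flat.Basic
import Mathlib.RingTheory.RingHom.Flat
import Mathlib.RingTheory.TensorProduct.Basic

/-!
# G1 team A: nodes N4 and N4' of `K412/Defs.lean` (helper819)

`n4 : N4 D r1 rm`, `n4' : N4' D r1 rm`, for every choice datum `D`.
-/

set_option autoImplicit false
universe u

open Groth.Agent.Grpsch.AffGrpd

namespace Groth.Agent.ResProp.EF.K819.N4

open Groth.Agent.ResProp.EF.K412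

variable {A B : Type u} [CommRing A] [CommRing B] {Lb : Type u} [CommRing Lb] [Algebra Lb A] {G : RGrpd A B}

lemma comp_congr {T : Type u} [CommRing T] {α α' β β' : B →+* T} (ha : α = α') (hb : β = β')
    (h : α.comp G.s = β.comp G.t) (h' : α'.comp G.s = β'.comp G.t) : G.comp α β h = G.comp α' β' h' := by
  subst ha hb
  rfl

/-- `e ∘ i = e` -/
lemma e_i : G.e.comp G.i = G.e := by
  have h3 : (G.e.comp G.i).comp G.t = RingHom.id A := by rw [RingHom.comp_assoc, G.i_t, G.e_s]
  have h0 : G.e.comp G.s = (G.e.comp G.i).comp G.t := by rw [h3, G.e_s]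
  have h1 : G.comp G.e (G.e.comp G.i) h0 = G.e := by
    refine (G.comp_i G.e).trans ?_
    rw [G.e_t]
    rfl
  have h2 : G.comp G.e (G.e.comp G.i) h0 = G.e.comp G.i := by
    refine Eq.trans (comp_congr ?_ rfl _ _) (G.e_comp (G.e.comp G.i))
    rw [h3]
    rfl
  exact h2.symm.trans h1

/-- `δ γ⁻¹ γ = δ` -/
lemma comp_inv_cancel {T : Type u} [CommRing T] (δ γ : B →+* T) (h : δ.comp G.s = γ.comp G.s) :
    ∃ (h1 : δ.comp G.s = (γ.comp G.i).comp G.t) (h2 : (G.comp δ (γ.comp G.i) h1).comp G.s = γ.comp G.t),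
      G.comp (G.comp δ (γ.comp G.i) h1) γ h2 = δ := by
  have h1 : δ.comp G.s = (γ.comp G.i).comp G.t := by rw [RingHom.comp_assoc, G.i_t, h]
  have h2' : (γ.comp G.i).comp G.s = γ.comp G.t := by rw [RingHom.comp_assoc, G.i_s]
  refine ⟨h1, (G.comp_s _ _ h1).trans h2', ?_⟩
  rw [G.assoc δ (γ.comp G.i) γ h1 h2']
  have h3 : G.comp (γ.comp G.i) γ h2' = (δ.comp G.s).comp G.e := by rw [G.i_comp, h]
  refine (comp_congr rfl h3 _ (by rw [RingHom.comp_assoc, G.e_t, RingHom.comp_id])).trans ?_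
  exact G.comp_e δ

/-- relations over a flat base come from relations -/
lemma rel_lemma (hs : G.s.Flat) {ι : Type} [Fintype ι] (c u : ι → B)
    (hu : ∀ {T : Type u} [CommRing T] (δ γ : B →+* T), δ.comp G.s = γ.comp G.s → ∑ i, δ (c i) * γ (u i) = 0)
    {K : Type u} [CommRing K] (γ : B →+* K) (M : ι → K)
    (hM : ∀ r : ι → A, ∑ i, G.s (r i) * c i = 0 → ∑ i, M i * γ (G.s (r i)) = 0) : ∑ i, M i * γ (u i) = 0 := by
  let _ := G.s.toAlgebra
  have hflat : Module.Flat A B := hs
  have h0 : ∑ i, c i ⊗ₜ[A] u i = (0 : TensorProduct A B B) := by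
    have := hu (T := TensorProduct A B B) (Algebra.TensorProduct.includeLeftRingHom)
      (Algebra.TensorProduct.includeRight : B →ₐ[A] TensorProduct A B B).toRingHom
      Algebra.TensorProduct.includeLeftRingHom_comp_algebraMap
    rw [← this]
    refine Finset.sum_congr rfl fun i _ => ?_
    change _ = (c i ⊗ₜ[A] (1 : B)) * ((1 : B) ⊗ₜ[A] u i)
    rw [Algebra.TensorProduct.tmul_mul_tmul, mul_one, one_mul]
  obtain ⟨κ, r, y, h1, h2⟩ := TensorProduct.vanishesTrivially_of_sum_tmul_eq_zero_of_rTensor_injective A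
    (Module.Flat.rTensor_preserves_injective_linearMap _ (Submodule.injective_subtype _)) h0
  have h3 : ∀ i, u i = ∑ j, G.s (r i j) * y j := h1
  have h4 : ∀ j, ∑ i, G.s (r i j) * c i = 0 := h2
  calc ∑ i, M i * γ (u i) = ∑ i, ∑ j, M i * (γ (G.s (r i j)) * γ (y j)) := by
        refine Finset.sum_congr rfl fun i _ => ?_
        rw [h3 i, map_sum, Finset.mul_sum]
        simp only [map_mul]
    _ = ∑ j, ∑ i, M i * (γ (G.s (r i j)) * γ (y j)) := Finset.sum_comm
    _ = ∑ j, (∑ i, M i * γ (G.s (r i j))) * γ (y j) := by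
        refine Finset.sum_congr rfl fun j _ => ?_
        rw [Finset.sum_mul]
        simp only [mul_assoc]
    _ = 0 := by
        refine Finset.sum_eq_zero fun j _ => ?_
        rw [hM _ (h4 j), zero_mul]

variable (D : Gen Lb G)

/-- the matrix of an identity acts trivially on the `c` -/
lemma c_eq (j : Fin D.n) : D.c j = ∑ i, D.c i * G.s (G.e (D.g i j)) := by
  have h : (RingHom.id B).comp G.s = (((RingHom.id B).comp G.s).comp G.e).comp G.t := by
    rw [RingHom.comp_assoc G.t G.e, G.e_t, RingHom.comp_id]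
  have h1 := D.comp_c (RingHom.id B) (((RingHom.id B).comp G.s).comp G.e) h j
  rw [G.comp_e (RingHom.id B)] at h1
  exact h1

lemma rel_id (j : Fin D.n) : ∑ i, G.s (G.e (D.g i j) - if i = j then 1 else 0) * D.c i = 0 := by
  have h := c_eq D j
  simp only [map_sub, sub_mul, Finset.sum_sub_distrib]
  rw [sub_eq_zero]
  have h1 : ∑ i, G.s (if i = j then 1 else 0) * D.c i = D.c j := by
    rw [Finset.sum_eq_single j]
    · simp
    · intro i _ hi
      simp [hi]
    · simp
  rw [h1]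
  conv_rhs => rw [h]
  exact Finset.sum_congr rfl fun i _ => mul_comm _ _

/-- the coefficients of `γ⁻¹ γ` on the `c` -/
lemma c_inv {T : Type u} [CommRing T] (δ γ : B →+* T) (h : δ.comp G.s = γ.comp G.s) (l : Fin D.n) :
    ∑ i, δ (D.c i) * ∑ j, γ (G.i (D.g i j)) * γ (D.g j l) = δ (D.c l) := by
  obtain ⟨h1, h2, h3⟩ := comp_inv_cancel (G := G) δ γ h
  have h4 := D.comp_c _ γ h2 l
  rw [h3] at h4
  rw [h4]
  simp only [D.comp_c δ (γ.comp G.i) h1, RingHom.comp_apply, Finset.mul_sum, Finset.sum_mul, mul_assoc]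
  exact Finset.sum_comm

section frames
variable {D} {r1 rm : ℕ} {K : Type u} [CommRing K]

/-- `M i(g)(γ) g(γ) = M` -/
lemma M_inv (hs : G.s.Flat) {P : FrPt D r1 rm K} (hP : IsFrC P) (γ : B →+* K) (hγ : γ.comp G.s = P.a) (b : Fin r1)
    (l : Fin D.n) : ∑ i, P.M b i * ∑ j, γ (G.i (D.g i j)) * γ (D.g j l) = P.M b l := by
  have h := rel_lemma hs D.c (fun i => (∑ j, G.i (D.g i j) * D.g j l) - if i = l then 1 else 0)
    (fun δ γ hh => by
      have := c_inv D δ γ hh l
      simp only [map_sub, map_sum, map_mul, mul_sub, Finset.sum_sub_distrib]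
      rw [sub_eq_zero, this, Finset.sum_eq_single l]
      · simp
      · intro i _ hi
        simp [hi]
      · simp) γ (P.M b)
    (fun r hr => by
      have := hP.rel1 r hr b
      rw [← this]
      refine Finset.sum_congr rfl fun i _ => ?_
      rw [← hγ]
      rfl)
  simp only [map_sub, map_sum, map_mul, mul_sub, Finset.sum_sub_distrib] at h
  rw [sub_eq_zero] at h
  rw [h, Finset.sum_eq_single l]
  · simp
  · intro i _ hi
    simp [hi]
  · simp

lemma prod_sum_mul {ι κ : Type} [Fintype ι] [DecidableEq ι] [Fintype κ] (f g : ι → κ → K) :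
    ∏ x, ∑ j, f x j * g x j = ∑ J : ι → κ, (∏ x, f x (J x)) * ∏ x, g x (J x) := by
  rw [Finset.prod_univ_sum]
  simp only [Fintype.piFinset_univ, Finset.prod_mul_distrib]

lemma mon_inv {T : Type u} [CommRing T] (δ γ : B →+* T) (h : δ.comp G.s = γ.comp G.s) (L : Fin D.m → Fin D.n) :
    ∑ I : Fin D.m → Fin D.n, δ (mon D.c I) *
      ∑ J : Fin D.m → Fin D.n, (∏ x, γ (G.i (D.g (I x) (J x)))) * ∏ x, γ (D.g (J x) (L x)) = δ (mon D.c L) := by
  have h1 : ∀ I : Fin D.m → Fin D.n,
      ∑ J : Fin D.m → Fin D.n, (∏ x, γ (G.i (D.g (I x) (J x)))) * ∏ x, γ (D.g (J x) (L x)) =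
        ∏ x, ∑ j, γ (G.i (D.g (I x) j)) * γ (D.g j (L x)) := fun I =>
    (prod_sum_mul (fun x j => γ (G.i (D.g (I x) j))) (fun x j => γ (D.g j (L x)))).symm
  have h2 := prod_sum_mul (fun (_ : Fin D.m) i => δ (D.c i)) (fun x i => ∑ j, γ (G.i (D.g i j)) * γ (D.g j (L x)))
  calc _ = ∑ I : Fin D.m → Fin D.n, (∏ x, δ (D.c (I x))) *
        ∏ x, ∑ j, γ (G.i (D.g (I x) j)) * γ (D.g j (L x)) := by
        refine Finset.sum_congr rfl fun I _ => ?_
        rw [h1 I, mon, map_prod]
    _ = ∏ x, ∑ i, δ (D.c i) * ∑ j, γ (G.i (D.g i j)) * γ (D.g j (L x)) := h2.symm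
    _ = ∏ x, δ (D.c (L x)) := Finset.prod_congr rfl fun x _ => c_inv D δ γ h (L x)
    _ = δ (mon D.c L) := (map_prod _ _ _).symm

lemma Mm_inv (hs : G.s.Flat) {P : FrPt D r1 rm K} (hP : IsFrC P) (γ : B →+* K) (hγ : γ.comp G.s = P.a) (b : Fin rm)
    (L : Fin D.m → Fin D.n) : ∑ I : Fin D.m → Fin D.n, P.Mm b I *
      ∑ J : Fin D.m → Fin D.n, (∏ x, γ (G.i (D.g (I x) (J x)))) * ∏ x, γ (D.g (J x) (L x)) = P.Mm b L := by
  have h := rel_lemma hs (mon D.c) (fun I : Fin D.m → Fin D.n =>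
      (∑ J : Fin D.m → Fin D.n, (∏ x, G.i (D.g (I x) (J x))) * ∏ x, D.g (J x) (L x)) - if I = L then 1 else 0)
    (fun δ γ hh => by
      have := mon_inv (D := D) δ γ hh L
      simp only [map_sub, map_sum, map_mul, map_prod, mul_sub, Finset.sum_sub_distrib]
      rw [sub_eq_zero, this, Finset.sum_eq_single L]
      · simp
      · intro i _ hi
        simp [hi]
      · simp) γ (P.Mm b)
    (fun r hr => by
      have := hP.relm r hr b
      rw [← this]
      refine Finset.sum_congr rfl fun i _ => ?_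
      rw [← hγ]
      rfl)
  simp only [map_sub, map_sum, map_mul, map_prod, mul_sub, Finset.sum_sub_distrib] at h
  rw [sub_eq_zero] at h
  rw [h, Finset.sum_eq_single L]
  · simp
  · intro i _ hi
    simp [hi]
  · simp

end frames

/-- **Node N4'** -/
theorem n4' (r1 rm : ℕ) : N4' D r1 rm := by
  intro hs K _ P P' γ hP ht
  obtain ⟨S, hS⟩ := hP.sur1
  obtain ⟨S', hS'⟩ := hP.surm
  refine ⟨⟨(Matrix.of fun i j => γ (D.g i j)) * S, ?_⟩,
    ⟨(Matrix.of fun I J => ∏ x, γ (D.g (I x) (J x)) : Matrix (Fin D.m → Fin D.n) (Fin D.m → Fin D.n) K) * S', ?_⟩⟩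
  · rw [← Matrix.mul_assoc, ← hS]
    congr 1
    ext b l
    rw [Matrix.mul_apply, ← M_inv hs hP.toIsFrC γ ht.src b l]
    simp only [ht.hM, Matrix.of_apply, Finset.sum_mul, Finset.mul_sum, mul_assoc]
    exact Finset.sum_comm
  · rw [← Matrix.mul_assoc, ← hS']
    congr 1
    ext b L
    rw [Matrix.mul_apply, ← Mm_inv hs hP.toIsFrC γ ht.src b L]
    simp only [ht.hMm, Matrix.of_apply, Finset.sum_mul, Finset.mul_sum, mul_assoc]
    exact Finset.sum_comm

lemma c_tgt {T : Type u} [CommRing T] (γ : B →+* T) (l : Fin D.n) :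
    γ (D.c l) = ∑ j, γ (G.t (G.e (D.c j))) * γ (D.g j l) := by
  have h : ((γ.comp G.t).comp G.e).comp G.s = γ.comp G.t := by
    rw [RingHom.comp_assoc, G.e_s, RingHom.comp_id]
  have h1 := D.comp_c ((γ.comp G.t).comp G.e) γ h l
  rw [G.e_comp γ] at h1
  exact h1

section frames
variable {D} {r1 rm : ℕ} {K : Type u} [CommRing K]

/-- the value functional is multiplicative through `mu` -/
lemma w_prod {P : FrPt D r1 rm K} (hP : IsFr P) {w : Fin r1 → K}
    (hw : ∀ j, ∑ b, w b * P.M b j = P.a (G.e (D.c j))) {wm : Fin rm → K}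
    (hwm : ∀ J, ∑ b, wm b * P.Mm b J = P.a (G.e (mon D.c J))) (Q : Fin D.m → Fin r1) :
    ∑ b, wm b * P.mu b Q = ∏ x, w (Q x) := by
  obtain ⟨S, hS⟩ := hP.sur1
  have hMS : ∀ b b', ∑ j, P.M b j * S j b' = if b = b' then 1 else 0 := by
    intro b b'
    have := congrFun (congrFun hS b) b'
    rw [Matrix.mul_apply, Matrix.one_apply] at this
    exact this
  have h1 : ∀ Q' : Fin D.m → Fin r1, ∑ J : Fin D.m → Fin D.n, (∏ x, P.M (Q' x) (J x)) * ∏ x, S (J x) (Q x) =
      if Q' = Q then 1 else 0 := by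
    intro Q'
    rw [← prod_sum_mul (fun x j => P.M (Q' x) j) (fun x j => S j (Q x))]
    simp only [hMS]
    by_cases h : Q' = Q
    · subst h
      simp
    · rw [if_neg h]
      obtain ⟨x, hx⟩ := Function.ne_iff.mp h
      exact Finset.prod_eq_zero (Finset.mem_univ x) (if_neg hx)
  calc ∑ b, wm b * P.mu b Q = ∑ b, wm b * ∑ Q' : Fin D.m → Fin r1, P.mu b Q' * (if Q' = Q then 1 else 0) := by
        simp
    _ = ∑ b, wm b * ∑ Q' : Fin D.m → Fin r1, P.mu b Q' *
          ∑ J : Fin D.m → Fin D.n, (∏ x, P.M (Q' x) (J x)) * ∏ x, S (J x) (Q x) := by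
        simp only [h1]
    _ = ∑ b, wm b * ∑ J : Fin D.m → Fin D.n, P.Mm b J * ∏ x, S (J x) (Q x) := by
        refine Finset.sum_congr rfl fun b _ => ?_
        congr 1
        simp only [hP.hmu, Finset.mul_sum, Finset.sum_mul, mul_assoc]
        exact Finset.sum_comm
    _ = ∑ J : Fin D.m → Fin D.n, (∑ b, wm b * P.Mm b J) * ∏ x, S (J x) (Q x) := by
        simp only [Finset.mul_sum, Finset.sum_mul, mul_assoc]
        exact Finset.sum_comm
    _ = ∑ J : Fin D.m → Fin D.n, (∏ x, P.a (G.e (D.c (J x)))) * ∏ x, S (J x) (Q x) := by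
        simp only [hwm, mon, map_prod]
    _ = ∏ x, ∑ j, P.a (G.e (D.c j)) * S j (Q x) :=
        (prod_sum_mul (fun _ j => P.a (G.e (D.c j))) (fun x j => S j (Q x))).symm
    _ = ∏ x, w (Q x) := by
        refine Finset.prod_congr rfl fun x _ => ?_
        calc ∑ j, P.a (G.e (D.c j)) * S j (Q x) = ∑ b, w b * ∑ j, P.M b j * S j (Q x) := by
              simp only [← hw, Finset.mul_sum, Finset.sum_mul, mul_assoc]
              exact Finset.sum_comm
          _ = w (Q x) := by
              simp only [hMS]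
              simp

lemma sum_aux {X Y : Type} [Fintype X] [Fintype Y] {w : X → K} {N : X → Y → K} {y : Y → K}
    (hy : ∀ J, ∑ b, w b * N b J = y J) (z : Y → K) : ∑ b, w b * ∑ J, N b J * z J = ∑ J, y J * z J := by
  simp only [← hy, Finset.mul_sum, Finset.sum_mul, mul_assoc]
  exact Finset.sum_comm

end frames

/-- **Node N4** -/
theorem n4 (r1 rm : ℕ) : N4 D r1 rm := by
  intro hs K _ P P' hP hP' hθ
  obtain ⟨w, hw⟩ := hP'.ep1
  obtain ⟨wm, hwm⟩ := hP'.epm
  have hmu' : ∀ Q : Fin D.m → Fin r1, ∑ b, wm b * P.mu b Q = ∏ x, w (Q x) := by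
    intro Q
    rw [hθ.th1]
    exact w_prod hP' hw hwm Q
  let v : Fin D.n → K := fun j => ∑ b, w b * P.M b j
  have hv0 : v D.i0 = 1 := by
    change ∑ b, w b * P.M b D.i0 = 1
    simp only [hθ.th0]
    rw [hw, D.c_i0, map_one, map_one]
  have hmon : ∀ J : Fin D.m → Fin D.n, mon v J = ∑ b, wm b * P.Mm b J := by
    intro J
    calc mon v J = ∏ x, ∑ b, w b * P.M b (J x) := rfl
      _ = ∑ Q : Fin D.m → Fin r1, (∏ x, w (Q x)) * ∏ x, P.M (Q x) (J x) :=
        prod_sum_mul (fun _ b => w b) (fun x b => P.M b (J x))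
      _ = ∑ Q : Fin D.m → Fin r1, (∑ b, wm b * P.mu b Q) * ∏ x, P.M (Q x) (J x) := by simp only [hmu']
      _ = ∑ b, wm b * P.Mm b J := by
        simp only [hP.hmu, Finset.mul_sum, Finset.sum_mul, mul_assoc]
        exact Finset.sum_comm
  obtain ⟨γ, hγs, hγc⟩ := D.pres P.a v hv0 (by
    intro p hp
    simp only [hmon, Finset.mul_sum]
    rw [Finset.sum_comm]
    refine Finset.sum_eq_zero fun b _ => ?_
    calc ∑ J, P.a (p J) * (wm b * P.Mm b J) = wm b * ∑ J, P.Mm b J * P.a (p J) := by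
          rw [Finset.mul_sum]
          exact Finset.sum_congr rfl fun J _ => by ring
      _ = 0 := by rw [hP.relm p hp b, mul_zero])
  have hγm : ∀ J : Fin D.m → Fin D.n, ∑ b, wm b * P.Mm b J = γ (mon D.c J) := by
    intro J
    rw [← hmon, mon, mon, map_prod]
    simp only [hγc]
  have hγs' : ∀ z, γ (G.s z) = P.a z := fun z => RingHom.congr_fun hγs z
  have hes : ∀ z, G.e (G.s z) = z := fun z => RingHom.congr_fun G.e_s z
  have het : ∀ z, G.e (G.t z) = z := fun z => RingHom.congr_fun G.e_t z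
  have hei : ∀ z, G.e (G.i z) = G.e z := fun z => RingHom.congr_fun e_i z
  have hA : ∀ z : (Fin D.m → Fin D.n) → A,
      ∑ b, wm b * ∑ J, P.Mm b J * P.a (z J) = γ (∑ J, G.s (z J) * mon D.c J) := by
    intro z
    rw [sum_aux hγm, map_sum]
    exact Finset.sum_congr rfl fun J _ => by rw [map_mul, hγs', mul_comm]
  have hB : ∀ z : (Fin D.m → Fin D.n) → A,
      ∑ b, wm b * ∑ J, P'.Mm b J * P'.a (z J) = P'.a (G.e (∑ J, G.s (z J) * mon D.c J)) := by
    intro z
    rw [sum_aux hwm, map_sum, map_sum]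
    exact Finset.sum_congr rfl fun J _ => by rw [map_mul, map_mul, hes, mul_comm]
  have htx : ∀ l, γ (G.t (D.x l)) = P'.a (D.x l) := by
    intro l
    rw [D.t_x, ← hA]
    simp only [hθ.th2]
    rw [hB, ← D.t_x, het]
  have ht : γ.comp G.t = P'.a := by
    ext z
    have hz : z ∈ Algebra.adjoin Lb (Set.range D.x) := by rw [D.x_gen]; trivial
    induction hz using Algebra.adjoin_induction with
    | mem z hz =>
      obtain ⟨l, rfl⟩ := hz
      exact htx l
    | algebraMap l =>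
      rw [RingHom.comp_apply, ← D.st, hγs', hθ.thL]
    | add z z' _ _ h h' => rw [map_add, map_add, h, h']
    | mul z z' _ _ h h' => rw [map_mul, map_mul, h, h']
  have hM : ∀ b j, P'.M b j = ∑ i, P.M b i * γ (G.i (D.g i j)) := by
    intro b j
    have h1 : ∑ i, P.M b i * γ (G.i (D.g i j)) =
        ∑ b', wm b' * ∑ i, P.M b i * ∑ J, P.Mm b' J * P.a (D.ig i j J) := by
      simp only [D.i_g, ← hA, Finset.mul_sum]
      rw [Finset.sum_comm]
      refine Finset.sum_congr rfl fun b' _ => Finset.sum_congr rfl fun i _ => Finset.sum_congr rfl fun J _ => ?_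
      ring
    have h2 : ∑ i, P'.M b i * P'.a (G.e (G.i (D.g i j))) =
        ∑ b', wm b' * ∑ i, P'.M b i * ∑ J, P'.Mm b' J * P'.a (D.ig i j J) := by
      simp only [D.i_g, ← hB, Finset.mul_sum]
      rw [Finset.sum_comm]
      refine Finset.sum_congr rfl fun b' _ => Finset.sum_congr rfl fun i _ => Finset.sum_congr rfl fun J _ => ?_
      ring
    rw [h1]
    simp only [hθ.th3]
    rw [← h2]
    simp only [hei]
    have h3 := hP'.rel1 _ (rel_id D j) b
    simp only [map_sub, mul_sub, Finset.sum_sub_distrib] at h3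
    rw [sub_eq_zero] at h3
    rw [h3, Finset.sum_eq_single j]
    · simp
    · intro i _ hi
      simp [hi]
    · simp
  refine ⟨γ, ?_, ?_⟩
  · exact
    { src := hγs
      tgt := ht
      hM := hM
      hMm := by
        intro b J
        rw [hP'.hmu, ← hθ.th1]
        simp only [hM]
        calc _ = ∑ Q : Fin D.m → Fin r1, P.mu b Q *
              ∑ I : Fin D.m → Fin D.n, (∏ x, P.M (Q x) (I x)) * ∏ x, γ (G.i (D.g (I x) (J x))) := by
              refine Finset.sum_congr rfl fun Q _ => ?_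
              congr 1
              exact prod_sum_mul (fun x i => P.M (Q x) i) (fun x i => γ (G.i (D.g i (J x))))
          _ = _ := by
              simp only [hP.hmu, Finset.mul_sum, Finset.sum_mul, mul_assoc]
              exact Finset.sum_comm
      hmu := hθ.th1.symm }
  · intro γ' h'
    refine D.gen γ' γ (h'.src.trans hγs.symm) fun l => ?_
    rw [hγc, c_tgt D γ' l]
    have h1 : ∀ j, γ' (G.t (G.e (D.c j))) = ∑ b, w b * ∑ i, P.M b i * γ' (G.i (D.g i j)) := by
      intro j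
      simp only [← h'.hM]
      rw [hw]
      exact RingHom.congr_fun h'.tgt _
    simp only [h1]
    change _ = ∑ b, w b * P.M b l
    simp only [← M_inv hs hP.toIsFrC γ' h'.src _ l, Finset.mul_sum, Finset.sum_mul, mul_assoc]
    rw [Finset.sum_comm]
    refine Finset.sum_congr rfl fun b _ => ?_
    exact Finset.sum_comm

end Groth.Agent.ResProp.EF.K819.N4
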