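import Groth.Agent.ResProp.EF.K412.AlgA
import Groth.Agent.ResProp.EF.K412.Out
import Groth.Agent.ResProp.EF.K128.CoverIn
import Groth.Agent.ResProp.EF.K34.Trans
import Groth.Agent.ResProp.EF.K819.M2
import Groth.Agent.ResProp.EF.K819.N4
import Groth.Agent.ResProp.EF.K58.Galois

/-!
# G1, node Z1a: the action of the groupoid on `D0` and on the frame algebra (helper819)

`assoc` : associativity of the action on `T`-points of `D1`, for every `T` (through the universal pair of composable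
arrows, which is flat over `D0`, so that ring maps out of `D0` into it are determined on `F.R`).
`actD0`, `actFr` : 128's `ActD` over `D0`, `D1` and over `Fr D0`, `Fr D1`.
-/

set_option autoImplicit false
set_option linter.dupNamespace false
universe u

open Groth.Agent.Grpsch.AffGrpd CategoryTheory CategoryTheory.Limits Opposite
open EF56 K784.BC K784.PM K741.RP

noncomputable section

namespace Groth.Agent.ResProp.EF.K819.Act

open Groth.Agent.ResProp.EF.K412

/-- pushouts of commutative rings, elementary form -/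
theorem exists_po {A B D : Type u} [CommRing A] [CommRing B] [CommRing D] (p : A →+* D) (s : A →+* B) :
    ∃ (R : Type u) (_ : CommRing R) (i : D →+* R) (g : B →+* R), g.comp s = i.comp p ∧
      ∀ {T : Type u} [CommRing T] (d : D →+* T) (γ : B →+* T), γ.comp s = d.comp p →
        ∃! r : R →+* T, r.comp i = d ∧ r.comp g = γ := by
  refine ⟨(pushout (CommRingCat.ofHom p) (CommRingCat.ofHom s) : CommRingCat), inferInstance,
    (pushout.inl (CommRingCat.ofHom p) (CommRingCat.ofHom s)).hom,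
    (pushout.inr (CommRingCat.ofHom p) (CommRingCat.ofHom s)).hom, ?_, ?_⟩
  · exact (congrArg CommRingCat.Hom.hom (pushout.condition (f := CommRingCat.ofHom p)
      (g := CommRingCat.ofHom s))).symm
  · intro T _ d γ hγ
    have w : CommRingCat.ofHom p ≫ CommRingCat.ofHom d = CommRingCat.ofHom s ≫ CommRingCat.ofHom γ := by
      ext z
      exact (RingHom.congr_fun hγ z).symm
    refine ⟨(pushout.desc (CommRingCat.ofHom d) (CommRingCat.ofHom γ) w).hom, ⟨?_, ?_⟩, ?_⟩
    · exact congrArg CommRingCat.Hom.hom (pushout.inl_desc (CommRingCat.ofHom d) (CommRingCat.ofHom γ) w)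
    · exact congrArg CommRingCat.Hom.hom (pushout.inr_desc (CommRingCat.ofHom d) (CommRingCat.ofHom γ) w)
    · rintro r ⟨hr1, hr2⟩
      have : CommRingCat.ofHom r = pushout.desc (CommRingCat.ofHom d) (CommRingCat.ofHom γ) w := by
        apply pushout.hom_ext
        · rw [pushout.inl_desc]
          ext z
          exact RingHom.congr_fun hr1 z
        · rw [pushout.inr_desc]
          ext z
          exact RingHom.congr_fun hr2 z
      rw [← this]
      rfl

/-- the radical of a generated ideal, under a ring map -/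
theorem map_mem_radical {R S : Type u} [CommRing R] [CommRing S] {ι : Type*} (f : R →+* S) {t : ι → R} {z : R}
    (h : z ∈ (Ideal.span (Set.range t)).radical) : f z ∈ (Ideal.span (Set.range fun i => f (t i))).radical := by
  obtain ⟨n, hn⟩ := h
  refine ⟨n, ?_⟩
  have h1 := Ideal.mem_map_of_mem f hn
  rw [map_pow, Ideal.map_span, ← Set.range_comp] at h1
  exact h1

theorem mem_radical_trans {R : Type u} [CommRing R] {ι : Type*} {t t' : ι → R}
    (h : ∀ i, t i ∈ (Ideal.span (Set.range t')).radical) {z : R} (hz : z ∈ (Ideal.span (Set.range t)).radical) :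
    z ∈ (Ideal.span (Set.range t')).radical := by
  have h1 : (Ideal.span (Set.range t)).radical ≤ (Ideal.span (Set.range t')).radical := by
    rw [Ideal.radical_le_radical_iff, Ideal.span_le]
    rintro _ ⟨i, rfl⟩
    exact h i
  exact h1 hz

variable {A B : Type u} [CommRing A] [CommRing B] {Lb : Type u} [CommRing Lb] [Algebra Lb A] {G : RGrpd A B}
  {D : Gen Lb G} {κ : Type u} [Field κ] {x : A →+* κ} {F : FrRing D x} (M : MidData F)

/-- the closed conditions are stable under ring maps -/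
theorem isFrC_map {r1 rm : ℕ} {K K' : Type u} [CommRing K] [CommRing K'] {P : FrPt D r1 rm K} (h : IsFrC P)
    (f : K →+* K') : IsFrC (P.map f) where
  hmu b J := by
    change f (P.Mm b J) = ∑ Q : Fin D.m → Fin r1, f (P.mu b Q) * ∏ k, f (P.M (Q k) (J k))
    rw [h.hmu, map_sum]
    simp only [map_mul, map_prod]
  rel1 v hv b := by
    change ∑ j, f (P.M b j) * f (P.a (v j)) = 0
    have := congrArg f (h.rel1 v hv b)
    rw [map_sum, map_zero] at this
    simpa only [map_mul] using this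
  relm v hv b := by
    change ∑ J, f (P.Mm b J) * f (P.a (v J)) = 0
    have := congrArg f (h.relm v hv b)
    rw [map_sum, map_zero] at this
    simpa only [map_mul] using this

/-- two arrows of `D1` with the same source and the composite arrow: the targets agree on `F.R` -/
theorem target_eq (hs : G.s.Flat) {T : Type u} [CommRing T] (r r' r'' : M.D1 →+* T) (h1 : r'.comp M.σ = r.comp M.τ)
    (h2 : r''.comp M.σ = r.comp M.σ) (hh : (r'.comp M.g).comp G.s = (r.comp M.g).comp G.t)
    (h3 : r''.comp M.g = G.comp (r'.comp M.g) (r.comp M.g) hh) :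
    (r''.comp M.τ).comp (algebraMap F.R M.D0) = (r'.comp M.τ).comp (algebraMap F.R M.D0) := by
  have t1 := isTrans_point M r
  have t2 := isTrans_point M r'
  have t3 := isTrans_point M r''
  rw [h1] at t2
  rw [h2, h3] at t3
  have hP : IsFrC (F.P.map ((r.comp M.σ).comp (algebraMap F.R M.D0))) := isFrC_map F.closed _
  have t4 := K34.isTrans_trans hs hP t1 t2 hh
  exact hom_ext (IsTrans_unique t3 t4)

/-- **associativity of the action**, on `T`-points of `D1` -/
theorem assoc (hs : G.s.Flat) {T : Type u} [CommRing T] (r r' r'' : M.D1 →+* T) (h1 : r'.comp M.σ = r.comp M.τ)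
    (h2 : r''.comp M.σ = r.comp M.σ) (hh : (r'.comp M.g).comp G.s = (r.comp M.g).comp G.t)
    (h3 : r''.comp M.g = G.comp (r'.comp M.g) (r.comp M.g) hh) : r''.comp M.τ = r'.comp M.τ := by
  -- the universal composable pair
  obtain ⟨T2, _, i1, i2, h12, hT2⟩ := exists_po M.τ M.σ
  have hh' : (i2.comp M.g).comp G.s = (i1.comp M.g).comp G.t := by
    have e1 : (i2.comp M.g).comp G.s = (i2.comp M.σ).comp M.p := by rw [RingHom.comp_assoc, ← M.σ_p]; rfl
    have e2 : (i1.comp M.g).comp G.t = (i1.comp M.τ).comp M.p := by rw [RingHom.comp_assoc, ← M.τ_p]; rfl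
    rw [e1, e2, h12]
  obtain ⟨i3, ⟨h4, h5⟩, -⟩ := M.po (i1.comp M.σ) (G.comp (i2.comp M.g) (i1.comp M.g) hh') (by
    rw [G.comp_s, RingHom.comp_assoc, M.hg]
    rfl)
  have key : i3.comp M.τ = i2.comp M.τ := by
    have hflat1 : i1.Flat := stable_of_po M.τ M.σ i1 i2 h12 (fun d γ h => hT2 d γ h)
      RingHom.Flat.isStableUnderBaseChange (sigma_flat M hs)
    have hflat : (i1.comp M.σ).Flat := RingHom.Flat.comp (sigma_flat M hs) hflat1
    have hsh : K478.Sheafy fun z => i1 (M.σ (algebraMap F.R M.D0 (sIJ F z))) := by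
      let _ := (i1.comp M.σ).toAlgebra
      have : Module.Flat M.D0 T2 := hflat
      exact M.sec.sh.of_flat (E := T2)
    have hsh2 : K478.Sheafy fun z => i2 (M.τ (algebraMap F.R M.D0 (sIJ F z))) := by
      refine hsh.mono fun z => ?_
      refine mem_radical_trans (t := fun z => i1 (M.τ (algebraMap F.R M.D0 (sIJ F z)))) (fun z' => ?_)
        (map_mem_radical i1 (sigma_mem_radical M hs z))
      have e : i1 (M.τ (algebraMap F.R M.D0 (sIJ F z'))) = i2 (M.σ (algebraMap F.R M.D0 (sIJ F z'))) :=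
        (RingHom.congr_fun h12 _).symm
      rw [e]
      exact map_mem_radical i2 (sigma_mem_radical M hs z')
    exact (M.sec.hom_ext (f := i2.comp M.τ) (g := i3.comp M.τ) hsh2
      (target_eq M hs i1 i2 i3 h12 h4 hh' h5).symm).symm
  obtain ⟨v, ⟨hv1, hv2⟩, -⟩ := hT2 r r' h1
  have hr : r'' = v.comp i3 := by
    refine M2.d1_hom_ext M (fun z => ?_) (fun b => ?_)
    · have e1 := RingHom.congr_fun h2 z
      have e2 := RingHom.congr_fun h4 z
      change r'' (M.σ z) = v (i3 (M.σ z))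
      have e3 : i3 (M.σ z) = i1 (M.σ z) := e2
      rw [e3]
      exact e1.trans (RingHom.congr_fun hv1 (M.σ z)).symm
    · have e1 : r''.comp M.g = v.comp (i3.comp M.g) := by
        rw [h3, h5, G.comp_nat]
        refine K819.N4.comp_congr ?_ ?_ _ _
        · rw [← RingHom.comp_assoc, hv2]
        · rw [← RingHom.comp_assoc, hv1]
      exact RingHom.congr_fun e1 b
  rw [hr, RingHom.comp_assoc, key, ← RingHom.comp_assoc, hv2]

section NF

variable {A : NFᵒᵖ ⥤ CommRingCat.{u}} {Lb : Type u} [CommRing Lb] [Algebra Lb (A.obj (op ⟨0⟩))]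
  {G : RGrpd (A.obj (op ⟨0⟩)) (A.obj (op ⟨1⟩))} {D : Gen Lb G} {κ : Type u} [Field κ] {x : A.obj (op ⟨0⟩) →+* κ}
  {F : FrRing D x} (M : MidData F)

/-- a pushout square from its universal property -/
theorem isPushout_of_po {A B D0 D1 : Type u} [CommRing A] [CommRing B] [CommRing D0] [CommRing D1] (p : A →+* D0)
    (s : A →+* B) (σ : D0 →+* D1) (g : B →+* D1) (h : g.comp s = σ.comp p)
    (po : ∀ {T : Type u} [CommRing T] (d : D0 →+* T) (γ : B →+* T), γ.comp s = d.comp p →
      ∃! r : D1 →+* T, r.comp σ = d ∧ r.comp g = γ) :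
    IsPushout (CommRingCat.ofHom s) (CommRingCat.ofHom p) (CommRingCat.ofHom g) (CommRingCat.ofHom σ) := by
  have hc : ∀ c : PushoutCocone (CommRingCat.ofHom s) (CommRingCat.ofHom p),
      c.inl.hom.comp s = c.inr.hom.comp p := fun c => congrArg CommRingCat.Hom.hom c.condition
  have hd := fun c : PushoutCocone (CommRingCat.ofHom s) (CommRingCat.ofHom p) =>
    po c.inr.hom c.inl.hom (hc c)
  refine ⟨⟨?_⟩, ⟨PushoutCocone.IsColimit.mk _ (fun c => CommRingCat.ofHom (hd c).choose) ?_ ?_ ?_⟩⟩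
  · ext z
    exact RingHom.congr_fun h z
  · intro c
    ext z
    exact RingHom.congr_fun (hd c).choose_spec.1.2 z
  · intro c
    ext z
    exact RingHom.congr_fun (hd c).choose_spec.1.1 z
  · intro c m h1 h2
    have := (hd c).choose_spec.2 m.hom
      ⟨congrArg CommRingCat.Hom.hom h2, congrArg CommRingCat.Hom.hom h1⟩
    ext z
    exact RingHom.congr_fun this z

theorem isPushout_D0 : IsPushout (CommRingCat.ofHom G.s) (CommRingCat.ofHom M.p) (CommRingCat.ofHom M.g)
    (CommRingCat.ofHom M.σ) := isPushout_of_po M.p G.s M.σ M.g M.hg (fun d γ h => M.po d γ h)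

/-- associativity in the form of 128's `ActD` -/
theorem assoc_nf (hG : IsGrpd A G) (hs : G.s.Flat) {T : Type u} [CommRing T] (r r' r'' : M.D1 →+* T)
    (m : A.obj (op ⟨2⟩) →+* T) (h1 : r'.comp M.σ = r.comp M.τ) (h2 : r''.comp M.σ = r.comp M.σ)
    (h01 : m.comp (rg A (K128.Nerve.edge (0 : Fin 3) 1)) = r.comp M.g)
    (h12 : m.comp (rg A (K128.Nerve.edge (1 : Fin 3) 2)) = r'.comp M.g)
    (h02 : m.comp (rg A (K128.Nerve.edge (0 : Fin 3) 2)) = r''.comp M.g) : r''.comp M.τ = r'.comp M.τ := by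
  have hh : (r'.comp M.g).comp G.s = (r.comp M.g).comp G.t := by
    have e1 : (r'.comp M.g).comp G.s = (r'.comp M.σ).comp M.p := by rw [RingHom.comp_assoc, ← M.σ_p]; rfl
    have e2 : (r.comp M.g).comp G.t = (r.comp M.τ).comp M.p := by rw [RingHom.comp_assoc, ← M.τ_p]; rfl
    rw [e1, e2, h1]
  refine assoc M hs r r' r'' h1 h2 hh ?_
  have hh2 : (m.comp (rg A (K128.Nerve.edge (1 : Fin 3) 2))).comp G.s =
      (m.comp (rg A (K128.Nerve.edge (0 : Fin 3) 1))).comp G.t := by rw [h12, h01, hh]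
  rw [← h02]
  refine (hG.comp m hh2).symm.trans ?_
  exact K819.N4.comp_congr h12 h01 _ _

/-- **the action on `D0`** -/
def actD0 (hG : IsGrpd A G) (hs : G.s.Flat) : K128.Conerve.ActD A (CommRingCat.of M.D0) (CommRingCat.of M.D1) where
  p := CommRingCat.ofHom M.p
  σ := CommRingCat.ofHom M.σ
  τ := CommRingCat.ofHom M.τ
  g := CommRingCat.ofHom M.g
  po := by
    have h := isPushout_D0 M
    have e : CommRingCat.ofHom G.s = A.map (pr ⟨0⟩).op := by
      ext z
      exact RingHom.congr_fun hG.s z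
    rw [e] at h
    exact h
  ht := by
    ext z
    have h := RingHom.congr_fun M.τ_p z
    rw [hG.t] at h
    exact h.symm
  assoc := by
    intro T r r' r'' m h1 h2 h01 h12 h02
    ext z
    exact RingHom.congr_fun (assoc_nf M hG hs r.hom r'.hom r''.hom m.hom (congrArg CommRingCat.Hom.hom h1)
      (congrArg CommRingCat.Hom.hom h2) (congrArg CommRingCat.Hom.hom h01) (congrArg CommRingCat.Hom.hom h12)
      (congrArg CommRingCat.Hom.hom h02)) z

section Fr

variable {n : Type} [Fintype n] [DecidableEq n] (i₀ : n) (φ : n → M.B0)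

/-- `D = Fr φ` over `D0` -/
abbrev FD : Type u := K58.Fr i₀ (fun i => algebraMap M.B0 M.D0 (φ i))

/-- `R1 = Fr φ` over `D1` -/
abbrev FD1 : Type u := K58.Fr i₀ (fun i => algebraMap M.B0 M.D1 (φ i))

theorem σ_φ (i : n) : M.σ (algebraMap M.B0 M.D0 (φ i)) = algebraMap M.B0 M.D1 (φ i) :=
  (RingHom.congr_fun M.algB1_eq (φ i)).symm

theorem τ_φ (i : n) : M.τ (algebraMap M.B0 M.D0 (φ i)) = algebraMap M.B0 M.D1 (φ i) :=
  (M.τ_B (φ i)).trans (σ_φ M φ i)

/-- `σ` on `Fr` -/
def σF : FD M i₀ φ →+* FD1 M i₀ φ := K58.Fr.map (i₀ := i₀) M.σ (σ_φ M φ)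

/-- `τ` on `Fr` -/
def τF : FD M i₀ φ →+* FD1 M i₀ φ := K58.Fr.map (i₀ := i₀) M.τ (τ_φ M φ)

/-- **the action on `Fr` over `D0`** -/
def actFr (hG : IsGrpd A G) (hs : G.s.Flat) :
    K128.Conerve.ActD A (CommRingCat.of (FD M i₀ φ)) (CommRingCat.of (FD1 M i₀ φ)) where
  p := CommRingCat.ofHom (algebraMap (A.obj (op ⟨0⟩)) (FD M i₀ φ))
  σ := CommRingCat.ofHom (σF M i₀ φ)
  τ := CommRingCat.ofHom (τF M i₀ φ)
  g := CommRingCat.ofHom ((algebraMap M.D1 (FD1 M i₀ φ)).comp M.g)
  po := by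
    have h1 : IsPushout (A.map (pr ⟨0⟩).op) (CommRingCat.ofHom M.p) (CommRingCat.ofHom M.g)
      (CommRingCat.ofHom M.σ) := (actD0 M hG hs).po
    have h2 : IsPushout (CommRingCat.ofHom M.σ) (CommRingCat.ofHom (algebraMap M.D0 (FD M i₀ φ)))
      (CommRingCat.ofHom (algebraMap M.D1 (FD1 M i₀ φ))) (CommRingCat.ofHom (σF M i₀ φ)) :=
      K58.Fr.isPO (i₀ := i₀) M.σ (σ_φ M φ)
    have h3 := h1.paste_vert h2
    have e1 : CommRingCat.ofHom M.p ≫ CommRingCat.ofHom (algebraMap M.D0 (FD M i₀ φ)) =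
        CommRingCat.ofHom (algebraMap (A.obj (op ⟨0⟩)) (FD M i₀ φ)) := by
      ext z
      exact (IsScalarTower.algebraMap_apply (A.obj (op ⟨0⟩)) M.D0 (FD M i₀ φ) z).symm
    rw [e1] at h3
    exact h3
  ht := by
    ext z
    have h := RingHom.congr_fun M.τ_p z
    rw [hG.t] at h
    change algebraMap M.D1 (FD1 M i₀ φ) (M.g (rg A (lst ⟨0⟩) z)) =
      τF M i₀ φ (algebraMap (A.obj (op ⟨0⟩)) (FD M i₀ φ) z)
    rw [IsScalarTower.algebraMap_apply (A.obj (op ⟨0⟩)) M.D0 (FD M i₀ φ) z]
    refine Eq.trans ?_ (K58.Fr.map_algebraMap (i₀ := i₀) M.τ (τ_φ M φ) _).symm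
    exact congrArg _ h.symm
  assoc := by
    intro T r r' r'' m h1 h2 h01 h12 h02
    have cσ : (σF M i₀ φ).comp (algebraMap M.D0 (FD M i₀ φ)) = (algebraMap M.D1 (FD1 M i₀ φ)).comp M.σ :=
      K58.Fr.map_comp_algebraMap M.σ (σ_φ M φ)
    have cτ : (τF M i₀ φ).comp (algebraMap M.D0 (FD M i₀ φ)) = (algebraMap M.D1 (FD1 M i₀ φ)).comp M.τ :=
      K58.Fr.map_comp_algebraMap M.τ (τ_φ M φ)
    have mσ : (K58.mat i₀ (fun i => algebraMap M.B0 M.D0 (φ i))).map (σF M i₀ φ) =
      K58.mat i₀ (fun i => algebraMap M.B0 M.D1 (φ i)) := K58.Fr.map_mat M.σ (σ_φ M φ)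
    have mτ : (K58.mat i₀ (fun i => algebraMap M.B0 M.D0 (φ i))).map (τF M i₀ φ) =
      K58.mat i₀ (fun i => algebraMap M.B0 M.D1 (φ i)) := K58.Fr.map_mat M.τ (τ_φ M φ)
    have g1 : r'.hom.comp (σF M i₀ φ) = r.hom.comp (τF M i₀ φ) := congrArg CommRingCat.Hom.hom h1
    have g2 : r''.hom.comp (σF M i₀ φ) = r.hom.comp (σF M i₀ φ) := congrArg CommRingCat.Hom.hom h2
    have key : r''.hom.comp (τF M i₀ φ) = r'.hom.comp (τF M i₀ φ) := by
      refine K58.Fr.hom_ext ?_ ?_
      · rw [RingHom.comp_assoc, RingHom.comp_assoc, cτ, ← RingHom.comp_assoc, ← RingHom.comp_assoc]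
        refine assoc_nf M hG hs (r.hom.comp (algebraMap M.D1 (FD1 M i₀ φ)))
          (r'.hom.comp (algebraMap M.D1 (FD1 M i₀ φ))) (r''.hom.comp (algebraMap M.D1 (FD1 M i₀ φ))) m.hom
          ?_ ?_ ?_ ?_ ?_
        · rw [RingHom.comp_assoc, RingHom.comp_assoc, ← cσ, ← cτ, ← RingHom.comp_assoc, ← RingHom.comp_assoc, g1]
        · rw [RingHom.comp_assoc, RingHom.comp_assoc, ← cσ, ← RingHom.comp_assoc, ← RingHom.comp_assoc, g2]
        · exact congrArg CommRingCat.Hom.hom h01
        · exact congrArg CommRingCat.Hom.hom h12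
        · exact congrArg CommRingCat.Hom.hom h02
      · have e : ∀ (v : FD1 M i₀ φ →+* T) (w : FD M i₀ φ →+* FD1 M i₀ φ),
            (K58.mat i₀ (fun i => algebraMap M.B0 M.D0 (φ i))).map w =
              K58.mat i₀ (fun i => algebraMap M.B0 M.D1 (φ i)) →
            (K58.mat i₀ (fun i => algebraMap M.B0 M.D0 (φ i))).map (v.comp w) =
              (K58.mat i₀ (fun i => algebraMap M.B0 M.D1 (φ i))).map v := by
          intro v w hw
          rw [← hw, Matrix.map_map]
          rfl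
        rw [e _ _ mτ, e _ _ mτ, ← e _ _ mσ, ← e _ _ mσ, g1, g2, e _ _ mτ, e _ _ mσ]
    exact CommRingCat.hom_ext key

end Fr

end NF

end Groth.Agent.ResProp.EF.K819.Act
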