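import Groth.Agent.ResProp.EF.X56.NF
import Mathlib.CategoryTheory.Limits.FunctorCategory.Basic
import Mathlib.Algebra.Category.Ring.Colimits
import Groth.Agent.ResProp.EF.Base

/-!
# The groupoid ring over a point

For `x : A⟨0⟩ →+* K` the functor `Lx A x : NFᵒᵖ ⥤ CommRingCat`, `⟨n⟩ ↦ K ⊗[A⟨0⟩, last vertex] A⟨n+1⟩`, the cartesian
morphism `jx : A ⟶ Lx A x` and the constants `kap : K →+* Lx⟨n⟩`.
-/

set_option autoImplicit false
set_option linter.dupNamespace false
set_option linter.style.haveILetI false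

open CategoryTheory CategoryTheory.Limits Opposite

namespace Groth.Agent.ResProp.EF.K819

open EF56 K784.BC K784.PM K741.RP

universe u

theorem wmap_id (a : NF) : wmap (𝟙 a) = 𝟙 _ :=
  nf_ext (by rw [wmap_pr]; simp) (by rw [wmap_lst]; simp)

theorem wmap_comp {a b c : NF} (φ : a ⟶ b) (ψ : b ⟶ c) : wmap (φ ≫ ψ) = wmap φ ≫ wmap ψ :=
  nf_ext (by rw [wmap_pr, Category.assoc, wmap_pr, ← Category.assoc (wmap φ), wmap_pr, Category.assoc])
    (by rw [wmap_lst, Category.assoc, wmap_lst, wmap_lst])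

/-- adding a vertex -/
def sh : NF ⥤ NF where
  obj a := ⟨a.n + 1⟩
  map φ := wmap φ
  map_id a := wmap_id a
  map_comp φ ψ := wmap_comp φ ψ

variable (A : NFᵒᵖ ⥤ CommRingCat.{u})

/-- the last vertex, as a transformation from the constant functor -/
def lstN : (Functor.const NFᵒᵖ).obj (A.obj (op ⟨0⟩)) ⟶ sh.op ⋙ A where
  app a := A.map (lst a.unop).op
  naturality a b f := by
    change 𝟙 _ ≫ A.map (lst b.unop).op = A.map (lst a.unop).op ≫ A.map (wmap f.unop).op
    rw [← A.map_comp, ← op_comp, wmap_lst, Category.id_comp]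

/-- forgetting the last vertex, as a transformation -/
def prN : A ⟶ sh.op ⋙ A where
  app a := A.map (pr a.unop).op
  naturality a b f := by
    change A.map f ≫ A.map (pr b.unop).op = A.map (pr a.unop).op ≫ A.map (wmap f.unop).op
    rw [← A.map_comp, ← A.map_comp, ← op_comp, wmap_pr, op_comp]
    rfl

variable {K : Type u} [CommRing K] (x : A.obj (op ⟨0⟩) →+* K)

/-- `K ⊗ A⟨n+1⟩` -/
noncomputable def Lx : NFᵒᵖ ⥤ CommRingCat.{u} :=
  pushout ((Functor.const NFᵒᵖ).map (CommRingCat.ofHom x)) (lstN A)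

/-- the constants -/
noncomputable def kapN : (Functor.const NFᵒᵖ).obj (CommRingCat.of K) ⟶ Lx A x := pushout.inl _ _

/-- the map from `A⟨n+1⟩` -/
noncomputable def shN : sh.op ⋙ A ⟶ Lx A x := pushout.inr _ _

/-- the constants -/
noncomputable def kap (a : NF) : K →+* (Lx A x).obj (op a) := ((kapN A x).app (op a)).hom

/-- the map from `A⟨n+1⟩` -/
noncomputable def sx (a : NF) : A.obj (op ⟨a.n + 1⟩) →+* (Lx A x).obj (op a) := ((shN A x).app (op a)).hom

/-- the structure morphism -/
noncomputable def jx : A ⟶ Lx A x := prN A ≫ shN A x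

theorem jx_app (a : NF) : ((jx A x).app (op a)).hom = (sx A x a).comp (rg A (pr a)) := rfl

theorem po_x (a : NF) : IsPO x (rg A (lst a)) (kap A x a) (sx A x a) := by
  have h := (IsPushout.of_hasPushout ((Functor.const NFᵒᵖ).map (CommRingCat.ofHom x)) (lstN A)).map
    ((evaluation NFᵒᵖ CommRingCat.{u}).obj (op a))
  exact h

theorem rg_kap {a b : NF} (φ : a ⟶ b) (r : K) : rg (Lx A x) φ (kap A x b r) = kap A x a r := by
  have h := (kapN A x).naturality φ.op
  exact (congrArg (fun f => f.hom r) h).symm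

theorem rg_sx {a b : NF} (φ : a ⟶ b) (r : A.obj (op ⟨b.n + 1⟩)) :
    rg (Lx A x) φ (sx A x b r) = sx A x a (rg A (wmap φ) r) := by
  have h := (shN A x).naturality φ.op
  exact (congrArg (fun f => f.hom r) h).symm

theorem po_sx {a b : NF} (φ : a ⟶ b) :
    IsPO (rg A (wmap φ)) (sx A x b) (sx A x a) (rg (Lx A x) φ) := by
  have h1 : IsPushout (CommRingCat.ofHom (rg A (lst b))) (CommRingCat.ofHom x) (CommRingCat.ofHom (sx A x b))
    (CommRingCat.ofHom (kap A x b)) := (po_x A x b).flip
  have h2 : IsPushout (CommRingCat.ofHom (rg A (lst a))) (CommRingCat.ofHom x) (CommRingCat.ofHom (sx A x a))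
    (CommRingCat.ofHom (kap A x a)) := (po_x A x a).flip
  refine IsPushout.of_left (h₁₁ := CommRingCat.ofHom (rg A (lst b))) (h₂₁ := CommRingCat.ofHom (kap A x b)) (v₁₁ := CommRingCat.ofHom x) ?_ ?_ h1
  · have e1 : CommRingCat.ofHom (rg A (lst b)) ≫ CommRingCat.ofHom (rg A (wmap φ)) =
        CommRingCat.ofHom (rg A (lst a)) := by
      rw [← CommRingCat.ofHom_comp, ← rg_comp, wmap_lst]
    have e2 : CommRingCat.ofHom (kap A x b) ≫ CommRingCat.ofHom (rg (Lx A x) φ) =
        CommRingCat.ofHom (kap A x a) := by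
      rw [← CommRingCat.ofHom_comp]
      congr 1
      exact RingHom.ext fun r => rg_kap A x φ r
    rw [e1, e2]
    exact h2
  · rw [← CommRingCat.ofHom_comp, ← CommRingCat.ofHom_comp]
    congr 1
    exact RingHom.ext fun r => (rg_sx A x φ r).symm

variable {A}

/-- the structure morphism is cartesian -/
theorem cartHom_jx (h : GR A) : CartHom (jx A x) := by
  intro a b φ
  have h1 : IsPO (rg A φ) (rg A (pr b)) (rg A (pr a)) (rg A (wmap φ)) := h.po φ
  have h2 := po_sx A x φ
  exact IsPushout.paste_vert h1 h2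

end Groth.Agent.ResProp.EF.K819
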